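import Groth.Prelude.Def_LogNCD
import Groth.Agent.AffNorm62.Basic
import Mathlib.RingTheory.TensorProduct.Quotient
import Mathlib.RingTheory.RingHom.Etale
import Mathlib.RingTheory.RingHom.Flat
import Mathlib.AlgebraicGeometry.Morphisms.Flat
import Mathlib.RingTheory.Etale.Basic
import Mathlib.RingTheory.Smooth.Flat

/-!
A component of a relative normal crossing divisor is locally cut out by a regular element with flat quotient.
-/

set_option autoImplicit false
set_option backward.isDefEq.respectTransparency false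
set_option backward.isDefEq.respectTransparency.types false
universe u

open CategoryTheory CategoryTheory.Limits AlgebraicGeometry Opposite TopologicalSpace MvPolynomial TensorProduct

noncomputable section

namespace Groth.Agent.NCDLift3

/-- A coordinate of a flat chart is regular, with flat quotient. -/
theorem regular_and_flat_quotient {R C : Type u} [CommRing R] [CommRing C] {σ : Type u}
    (φ : MvPolynomial σ R →+* C) (hφ : φ.Flat) (i : σ) :
    (∀ x, φ (X i) * x = 0 → x = 0) ∧
      ((Ideal.Quotient.mk (Ideal.span {φ (X i)})).comp (φ.comp MvPolynomial.C)).Flat := by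
  classical
  let P := MvPolynomial σ R
  letI : Algebra P C := φ.toAlgebra
  haveI : Module.Flat P C := hφ
  refine ⟨fun x hx => ?_, ?_⟩
  · have hreg : IsSMulRegular P (X i : P) := fun a b hab => by
      refine MvPolynomial.ext _ _ fun m => ?_
      have h := congrArg (MvPolynomial.coeff (m + Finsupp.single i 1)) hab
      simp only [smul_eq_mul] at h
      rwa [mul_comm (X i) a, mul_comm (X i) b, MvPolynomial.coeff_mul_X, MvPolynomial.coeff_mul_X] at h
    refine IsSMulRegular.of_flat (S := C) hreg ?_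
    show φ (X i) • x = φ (X i) • (0 : C)
    rw [smul_eq_mul, hx, smul_zero]
  let I : Ideal P := Ideal.span {X i}
  let φ' : MvPolynomial {j : σ // j ≠ i} R →ₐ[R] P ⧸ I := MvPolynomial.aeval fun j => Ideal.Quotient.mk I (X j.1)
  let ψ₀ : P →ₐ[R] MvPolynomial {j : σ // j ≠ i} R :=
    MvPolynomial.aeval fun j => if h : j = i then 0 else X ⟨j, h⟩
  have hψX : ∀ j, ψ₀ (X j) = if h : j = i then 0 else X ⟨j, h⟩ := fun j => aeval_X _ j
  have hφX : ∀ j, φ' (X j) = Ideal.Quotient.mk I (X j.1) := fun j => aeval_X _ j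
  have hψ₀ : ∀ a ∈ I, ψ₀ a = 0 := fun a ha => by
    obtain ⟨c, rfl⟩ := Ideal.mem_span_singleton'.mp ha
    rw [map_mul, hψX, dif_pos rfl, mul_zero]
  let ψ : P ⧸ I →ₐ[R] MvPolynomial {j : σ // j ≠ i} R := Ideal.Quotient.liftₐ I ψ₀ hψ₀
  let e : MvPolynomial {j : σ // j ≠ i} R ≃ₐ[R] P ⧸ I := AlgEquiv.ofAlgHom φ' ψ
    (Ideal.Quotient.algHom_ext R (MvPolynomial.algHom_ext fun j => by
      show φ' (ψ₀ (X j)) = Ideal.Quotient.mk I (X j)
      rw [hψX]
      by_cases hj : j = i
      · subst hj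
        rw [dif_pos rfl, map_zero]
        exact (Ideal.Quotient.eq_zero_iff_mem.mpr (Ideal.mem_span_singleton_self _)).symm
      · rw [dif_neg hj, hφX]))
    (MvPolynomial.algHom_ext fun j => by
      show ψ (φ' (X j)) = X j
      rw [hφX]
      show ψ₀ (X j.1) = X j
      rw [hψX, dif_neg j.2])
  haveI : Module.Flat R (P ⧸ I) := Module.Flat.of_linearEquiv e.symm.toLinearEquiv
  letI : Algebra R C := (φ.comp MvPolynomial.C).toAlgebra
  haveI : IsScalarTower R P C := IsScalarTower.of_algebraMap_eq fun _ => rfl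
  have h : I.map φ = Ideal.span {φ (X i)} := by rw [Ideal.map_span, Set.image_singleton]
  have hflat : Module.Flat R ((P ⧸ I) ⊗[P] C) := Module.Flat.trans R (P ⧸ I) _
  let J : Ideal C := Ideal.span {φ (X i)}
  have hJ : I • (⊤ : Submodule P C) = J.restrictScalars P := by
    rw [Ideal.smul_top_eq_map]
    exact congrArg (Submodule.restrictScalars P) h
  let l : ((P ⧸ I) ⊗[P] C) ≃ₗ[R] (C ⧸ J) :=
    (((TensorProduct.quotTensorEquivQuotSMul C I).trans (Submodule.quotEquivOfEq _ _ hJ)).trans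
      (Submodule.Quotient.restrictScalarsEquiv P J)).restrictScalars R
  show Module.Flat R (C ⧸ J)
  exact Module.Flat.of_linearEquiv l.symm

variable {X S : Scheme.{u}} (f : X ⟶ S) {r : ℕ} (D : Fin r → X.IdealSheafData)

/-- Charts of a component over a given affine open of the base. -/
theorem exists_flat_equation (hD : LogNCD.IsNCD D f) (m : Fin r) (A : S.affineOpens) (x : X) :
    ∃ W : X.Opens, x ∈ W ∧ ∀ (Vo : X.affineOpens), Vo.1 ≤ W → ∀ e : Vo.1 ≤ f ⁻¹ᵁ A.1,
      ∃ t : Γ(X, Vo.1), (D m).ideal Vo = Ideal.span {t} ∧ (∀ y, t * y = 0 → y = 0) ∧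
        ((Ideal.Quotient.mk (Ideal.span {t})).comp (f.appLE A.1 Vo.1 e).hom).Flat := by
  by_cases hxm : x ∈ (D m).support
  · obtain ⟨W, hxW, n, v, idx, -, het, hideal, -⟩ := hD x ⟨⟨m, hxm⟩⟩
    refine ⟨W, hxW, ?_⟩
    rintro ⟨V, hV⟩ hVW hVA
    replace hV : IsAffineOpen V := hV
    refine ⟨LogNCD.sectOn W hVW (v (ULift.up (idx ⟨m, hxm⟩))), hideal ⟨m, hxm⟩ ⟨V, hV⟩ hVW, ?_⟩
    let C := Γ(X, V)
    let w : ULift.{u} (Fin n) → Γ(Spec C, ⊤) := fun a => (Scheme.ΓSpecIso C).inv (LogNCD.sectOn W hVW (v a))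
    let f₀ : Spec C ⟶ Spec Γ(S, A.1) := Spec.map (f.appLE A.1 V hVA)
    let j : Spec C ⟶ W := IsOpenImmersion.lift W.ι hV.fromSpec (by
      rw [Scheme.Opens.range_ι, hV.range_fromSpec]; exact hVW)
    have hjι : j ≫ W.ι = hV.fromSpec := IsOpenImmersion.lift_fac _ _ _
    haveI : IsOpenImmersion j :=
      haveI : IsOpenImmersion (j ≫ W.ι) := hjι ▸ inferInstance
      IsOpenImmersion.of_comp j W.ι
    have hw : ∀ a, w a = j.appTop (v a) := by
      intro a
      have h1 : hV.fromSpec.appLE W ⊤ (hV.fromSpec_preimage_self.ge.trans (hV.fromSpec.preimage_mono hVW)) =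
          X.presheaf.map (homOfLE hVW).op ≫ hV.fromSpec.appLE V ⊤ (hV.fromSpec_preimage_self.ge) :=
        (Scheme.Hom.map_appLE _ _ _).symm
      have h2 : hV.fromSpec.appLE V ⊤ (hV.fromSpec_preimage_self.ge) = (Scheme.ΓSpecIso C).inv := by
        rw [Scheme.Hom.appLE, IsAffineOpen.fromSpec_app_self, Category.assoc, ← Functor.map_comp]
        exact (congrArg ((Scheme.ΓSpecIso C).inv ≫ ·) (((Spec C).presheaf.congr_map (Subsingleton.elim _ (𝟙 _))).trans
          (CategoryTheory.Functor.map_id _ _))).trans (Category.comp_id _)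
      have h3 : (W.ι.appLE W ⊤ W.ι_preimage_self.ge) ≫ j.appTop = hV.fromSpec.appLE W ⊤ (hV.fromSpec_preimage_self.ge.trans (hV.fromSpec.preimage_mono hVW)) := by
        have := Scheme.Hom.appLE_comp_appLE j W.ι W ⊤ ⊤ W.ι_preimage_self.ge le_top
        rw [show j.appTop = j.appLE ⊤ ⊤ le_top from (Scheme.Hom.app_eq_appLE j).trans rfl]
        refine this.trans ?_
        simp only [hjι]
      have h4 : W.topIso.hom ≫ W.ι.appLE W ⊤ W.ι_preimage_self.ge = 𝟙 _ := by
        rw [Scheme.Opens.ι_appLE, Scheme.Opens.topIso_hom, ← Functor.map_comp]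
        exact (X.presheaf.congr_map (Subsingleton.elim _ (𝟙 _))).trans (CategoryTheory.Functor.map_id _ _)
      show (Scheme.ΓSpecIso C).inv (X.presheaf.map (homOfLE hVW).op (W.topIso.hom (v a))) = _
      rw [← h2, ← ConcreteCategory.comp_apply, ← h1, ← h3, ← ConcreteCategory.comp_apply, ← Category.assoc, h4,
        Category.id_comp]
    have hf₀ : f₀ ≫ A.2.fromSpec = (j ≫ W.ι) ≫ f := by
      rw [hjι]; exact IsAffineOpen.SpecMap_appLE_fromSpec f A.2 hV hVA
    have hc : AffineSpace.homOfVector f₀ w ≫ AffineSpace.map (ULift.{u} (Fin n)) A.2.fromSpec =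
        j ≫ AffineSpace.homOfVector (W.ι ≫ f) v := by
      apply AffineSpace.hom_ext
      · rw [Category.assoc, AffineSpace.map_over, ← Category.assoc, AffineSpace.homOfVector_over, hf₀,
          Category.assoc, Category.assoc, AffineSpace.homOfVector_over]
      · intro a
        rw [Scheme.Hom.comp_appTop, CommRingCat.comp_apply, AffineSpace.map_appTop_coord,
          AffineSpace.homOfVector_appTop_coord, Scheme.Hom.comp_appTop, CommRingCat.comp_apply,
          AffineSpace.homOfVector_appTop_coord, hw]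
    haveI : IsOpenImmersion (AffineSpace.map (ULift.{u} (Fin n)) A.2.fromSpec) :=
      MorphismProperty.of_isPullback (AffineSpace.isPullback_map A.2.fromSpec).flip inferInstance
    have het' : Etale (AffineSpace.homOfVector f₀ w) := by
      haveI : Etale (AffineSpace.homOfVector f₀ w ≫ AffineSpace.map (ULift.{u} (Fin n)) A.2.fromSpec) := by
        rw [hc]; infer_instance
      exact MorphismProperty.of_postcomp (W := @Etale) (W' := @Etale) _
        (AffineSpace.map (ULift.{u} (Fin n)) A.2.fromSpec) inferInstance inferInstance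
    haveI : MorphismProperty.RespectsIso @Etale.{u} := MorphismProperty.IsStableUnderBaseChange.respectsIso
    have hφ : (AffNorm62.coordHom f₀ w).Etale :=
      (HasRingHomProperty.Spec_iff (P := @Etale)).mp ((AffNorm62.property_homOfVector_iff @Etale _ _).mp het')
    have hflat : (AffNorm62.coordHom f₀ w).Flat := by
      algebraize [AffNorm62.coordHom f₀ w]
      exact RingHom.flat_algebraMap_iff.2 inferInstance
    let ε : Γ(Spec C, ⊤) →+* C := (Scheme.ΓSpecIso C).hom.hom
    let φ : MvPolynomial (ULift.{u} (Fin n)) Γ(S, A.1) →+* C := ε.comp (AffNorm62.coordHom f₀ w)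
    obtain ⟨hreg, hq⟩ := regular_and_flat_quotient φ
      (hflat.comp (RingHom.Flat.of_bijective (f := ε) (ConcreteCategory.bijective_of_isIso (Scheme.ΓSpecIso C).hom)))
      (ULift.up (idx ⟨m, hxm⟩))
    have hX : φ (MvPolynomial.X (ULift.up (idx ⟨m, hxm⟩))) =
        LogNCD.sectOn W hVW (v (ULift.up (idx ⟨m, hxm⟩))) := by
      show (Scheme.ΓSpecIso C).hom (eval₂Hom _ w (MvPolynomial.X _)) = _
      rw [eval₂Hom_X']
      exact Iso.inv_hom_id_apply (Scheme.ΓSpecIso C) _
    have hC : φ.comp MvPolynomial.C = (f.appLE A.1 V hVA).hom := by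
      refine RingHom.ext fun a => ?_
      show (Scheme.ΓSpecIso C).hom (eval₂Hom _ w (MvPolynomial.C a)) = _
      rw [eval₂Hom_C]
      have e1 : (Scheme.ΓSpecIso Γ(S, A.1)).inv ≫ f₀.appTop ≫ (Scheme.ΓSpecIso C).hom = f.appLE A.1 V hVA := by
        rw [Scheme.ΓSpecIso_naturality, Iso.inv_hom_id_assoc]
      exact congr($e1 a)
    rw [hX] at hreg hq
    rw [hC] at hq
    exact ⟨hreg, hq⟩
  · refine ⟨⟨((D m).support : Set X)ᶜ, (D m).support.2.isOpen_compl⟩, hxm, ?_⟩
    rintro ⟨V, hV⟩ hVle hVA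
    replace hV : IsAffineOpen V := hV
    have htop : (D m).ideal ⟨V, hV⟩ = ⊤ := by
      by_contra hne
      obtain ⟨P, hP, hle⟩ := Ideal.exists_le_maximal _ hne
      let y := hV.fromSpec ⟨P, hP.isPrime⟩
      have hy : y ∈ V := hV.range_fromSpec.le ⟨_, rfl⟩
      refine hVle hy ?_
      have h := ((D m).coe_support_inter ⟨V, hV⟩).ge
        (show y ∈ X.zeroLocus (U := V) ((D m).ideal ⟨V, hV⟩) ∩ V from ⟨?_, hy⟩)
      exact h.1
      rw [Scheme.mem_zeroLocus_iff]
      intro a ha hya
      have h2 : (⟨P, hP.isPrime⟩ : Spec Γ(X, V)) ∈ hV.fromSpec ⁻¹ᵁ X.basicOpen a := hya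
      rw [IsAffineOpen.fromSpec_preimage_basicOpen] at h2
      exact h2 (hle ha)
    refine ⟨1, by rw [htop, Ideal.span_singleton_one], fun y hy => by rwa [one_mul] at hy, ?_⟩
    haveI : Subsingleton (Γ(X, V) ⧸ Ideal.span ({1} : Set Γ(X, V))) :=
      Ideal.Quotient.subsingleton_iff.2 Ideal.span_singleton_one
    algebraize [(Ideal.Quotient.mk (Ideal.span ({1} : Set Γ(X, V)))).comp (f.appLE A.1 V hVA).hom]
    exact RingHom.flat_algebraMap_iff.2 inferInstance

end Groth.Agent.NCDLift3
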