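import Groth.Agent.Helper62.FlatNilCrit
import Mathlib.RingTheory.RingHom.Flat
import Mathlib.LinearAlgebra.TensorProduct.Quotient
import Mathlib.RingTheory.TensorProduct.Maps
import Mathlib.RingTheory.Ideal.Quotient.Operations

/-!
Ideals lifting a principal ideal along `B → B/qB`, `q² = 0`.
-/

set_option autoImplicit false

universe u

open TensorProduct

namespace Groth.Agent.NCDLift3

variable {A B : Type u} [CommRing A] [CommRing B]

/-- In a flat module the annihilator of `q` is `qM` when it is so in the ring. -/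
theorem exists_eq_smul_of_flat (q : A) (hann : ∀ a : A, q * a = 0 → ∃ b, a = q * b) {M : Type u}
    [AddCommGroup M] [Module A M] [Module.Flat A M] (m : M) (hm : q • m = 0) : ∃ m', m = q • m' := by
  let μ : A →ₗ[A] A := LinearMap.mulLeft A q
  have hex : Function.Exact (LinearMap.ker μ).subtype μ := LinearMap.exact_subtype_ker_map μ
  have hker : LinearMap.lTensor M μ (m ⊗ₜ[A] (1 : A)) = 0 := by
    rw [LinearMap.lTensor_tmul]
    show m ⊗ₜ[A] (q * 1) = 0
    rw [show q * 1 = q • (1 : A) from rfl, ← TensorProduct.smul_tmul, hm, TensorProduct.zero_tmul]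
  obtain ⟨z, hz⟩ := ((Module.Flat.lTensor_exact M hex) _).1 hker
  have hmem : ∀ z : M ⊗[A] LinearMap.ker μ,
      ∃ m', (TensorProduct.rid A M) (LinearMap.lTensor M (LinearMap.ker μ).subtype z) = q • m' := by
    intro z
    induction z using TensorProduct.induction_on with
    | zero => exact ⟨0, by simp⟩
    | tmul x a =>
      obtain ⟨b, hb⟩ := hann a.1 a.2
      refine ⟨b • x, ?_⟩
      rw [LinearMap.lTensor_tmul, TensorProduct.rid_tmul, ← mul_smul]
      show (a.1 : A) • x = _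
      rw [hb]
    | add x y hx hy =>
      obtain ⟨a, ha⟩ := hx
      obtain ⟨b, hb⟩ := hy
      exact ⟨a + b, by rw [map_add, map_add, ha, hb, smul_add]⟩
  obtain ⟨m', hm'⟩ := hmem z
  rw [hz, TensorProduct.rid_tmul, one_smul] at hm'
  exact ⟨m', hm'⟩

variable (f : A →+* B) (hf : f.Flat) (q : A) (hann : ∀ a : A, q * a = 0 → ∃ b, a = q * b)
  (hq : q * q = 0)

include hf hann in
theorem exists_eq_mul (x : B) (hx : f q * x = 0) : ∃ y, x = f q * y := by
  letI := f.toAlgebra
  haveI : Module.Flat A B := hf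
  obtain ⟨y, hy⟩ := exists_eq_smul_of_flat q hann (M := B) x (by rw [Algebra.smul_def]; exact hx)
  exact ⟨y, hy.trans (Algebra.smul_def _ _)⟩

variable (J : Ideal B) (t₀ : B) (hJ : J ⊔ Ideal.span {f q} = Ideal.span {t₀} ⊔ Ideal.span {f q})
  (ht₀ : ∀ x, t₀ * x ∈ Ideal.span {f q} → x ∈ Ideal.span {f q})

include hf hann hq ht₀ in
theorem isRegular_of_congr {t : B} (h : t - t₀ ∈ Ideal.span {f q}) (x : B) (hx : t * x = 0) : x = 0 := by
  have key : ∀ y, t * y ∈ Ideal.span {f q} → y ∈ Ideal.span {f q} := fun y hy => ht₀ y (by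
    have e : t₀ * y = t * y - (t - t₀) * y := by ring
    rw [e]
    exact sub_mem hy (Ideal.mul_mem_right _ _ h))
  obtain ⟨y, rfl⟩ := Ideal.mem_span_singleton'.1 (key x (by rw [hx]; exact zero_mem _))
  obtain ⟨z, hz⟩ := exists_eq_mul f hf q hann (t * y) (by rw [← hx]; ring)
  obtain ⟨w, rfl⟩ := Ideal.mem_span_singleton'.1 (key y (hz ▸ Ideal.mem_span_singleton'.2 ⟨z, mul_comm _ _⟩))
  rw [mul_assoc, ← map_mul, hq, map_zero, mul_zero]

include hf hann hq hJ ht₀ in
/-- A lift with flat quotient is principal, generated by a regular element. -/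
theorem exists_generator (hflat : ((Ideal.Quotient.mk J).comp f).Flat) :
    ∃ t, t - t₀ ∈ Ideal.span {f q} ∧ J = Ideal.span {t} ∧ ∀ x, t * x = 0 → x = 0 := by
  obtain ⟨t, ht, c, hc, htc⟩ : ∃ t ∈ J, ∃ c ∈ Ideal.span {f q}, t + c = t₀ :=
    Submodule.mem_sup.1 (hJ ▸ Ideal.mem_sup_left (Ideal.mem_span_singleton_self t₀))
  have hcong : t - t₀ ∈ Ideal.span {f q} := by rw [← htc, sub_add_cancel_left]; exact neg_mem hc
  refine ⟨t, hcong, le_antisymm (fun x hx => ?_) ((Ideal.span_singleton_le_iff_mem _).2 ht),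
    isRegular_of_congr f hf q hann hq t₀ ht₀ hcong⟩
  have hdec : ∀ x ∈ J, ∃ b j, j ∈ J ∧ x = b * t + f q * j := by
    intro x hx
    obtain ⟨a, ha, e, he, hxe⟩ := Submodule.mem_sup.1 (hJ ▸ Ideal.mem_sup_left hx :
      x ∈ Ideal.span {t₀} ⊔ Ideal.span {f q})
    obtain ⟨b, rfl⟩ := Ideal.mem_span_singleton'.1 ha
    obtain ⟨c', rfl⟩ := Ideal.mem_span_singleton'.1 hc
    obtain ⟨e', rfl⟩ := Ideal.mem_span_singleton'.1 he
    have hx2 : x = b * t + f q * (b * c' + e') := by rw [← hxe, ← htc]; ring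
    have hmem : f q * (b * c' + e') ∈ J := by
      have h := sub_mem hx (Ideal.mul_mem_left J b ht)
      rwa [hx2, add_sub_cancel_left] at h
    obtain ⟨m, hm⟩ := exists_eq_mul ((Ideal.Quotient.mk J).comp f) hflat q hann
      (Ideal.Quotient.mk J (b * c' + e')) (by
        rw [RingHom.comp_apply, ← map_mul]; exact Ideal.Quotient.eq_zero_iff_mem.2 hmem)
    obtain ⟨m, rfl⟩ := Ideal.Quotient.mk_surjective m
    rw [RingHom.comp_apply, ← map_mul, Ideal.Quotient.eq] at hm
    refine ⟨b, b * c' + e' - f q * m, hm, ?_⟩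
    rw [hx2, mul_sub, ← mul_assoc, ← map_mul f, hq, map_zero, zero_mul, sub_zero]
  obtain ⟨b, j, hj, rfl⟩ := hdec x hx
  obtain ⟨b', j', -, rfl⟩ := hdec j hj
  refine Ideal.mem_span_singleton'.2 ⟨b + f q * b', ?_⟩
  rw [mul_add (f q), ← mul_assoc (f q) (f q), ← map_mul f q q, hq, map_zero, zero_mul]
  ring

include hf hann hq ht₀ hJ in
/-- A principal lift has flat quotient. -/
theorem flat_of_principal {t : B} (hJt : J = Ideal.span {t})
    {A₀ C : Type u} [CommRing A₀] [CommRing C] (φ : A →+* A₀) (hφ : Function.Surjective φ)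
    (hkφ : RingHom.ker φ = Ideal.span {q}) (π : B →+* C) (hπ : Function.Surjective π)
    (hker : RingHom.ker π = Ideal.span {f q}) (f₀ : A₀ →+* C) (hcomm : π.comp f = f₀.comp φ)
    (h0 : ((Ideal.Quotient.mk (J.map π)).comp f₀).Flat) :
    ((Ideal.Quotient.mk J).comp f).Flat := by
  letI algM : Algebra A (B ⧸ J) := ((Ideal.Quotient.mk J).comp f).toAlgebra
  let e : (A ⧸ Ideal.span {q}) ≃+* A₀ :=
    (Ideal.quotEquivOfEq hkφ.symm).trans (RingHom.quotientKerEquivOfSurjective hφ)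
  let g : (A ⧸ Ideal.span {q}) →+* (C ⧸ J.map π) := ((Ideal.Quotient.mk (J.map π)).comp f₀).comp e.toRingHom
  letI : Algebra (A ⧸ Ideal.span {q}) (C ⧸ J.map π) := g.toAlgebra
  letI : Algebra A (C ⧸ J.map π) := ((Ideal.Quotient.mk (J.map π)).comp (π.comp f)).toAlgebra
  have he : ∀ a, e (Ideal.Quotient.mk _ a) = φ a := fun a => rfl
  haveI : IsScalarTower A (A ⧸ Ideal.span {q}) (C ⧸ J.map π) := IsScalarTower.of_algebraMap_eq fun a => by
    show Ideal.Quotient.mk _ (π (f a)) = Ideal.Quotient.mk _ (f₀ (e (Ideal.Quotient.mk _ a)))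
    rw [he, show π (f a) = f₀ (φ a) from RingHom.congr_fun hcomm a]
  haveI hflat₀ : Module.Flat (A ⧸ Ideal.span {q}) (C ⧸ J.map π) :=
    (RingHom.Flat.of_bijective (f := e.toRingHom) e.bijective).comp h0
  let μ : (B ⧸ J) →ₐ[A] (C ⧸ J.map π) :=
    { toRingHom := Ideal.quotientMap (J.map π) π Ideal.le_comap_map
      commutes' := fun a => rfl }
  let L := μ.toLinearMap.liftBaseChange (A ⧸ Ideal.span {q})
  have hone : ∀ z : (A ⧸ Ideal.span {q}) ⊗[A] (B ⧸ J), ∃ m, z = 1 ⊗ₜ m := by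
    intro z
    induction z using TensorProduct.induction_on with
    | zero => exact ⟨0, by simp⟩
    | tmul a m =>
      obtain ⟨a, rfl⟩ := Ideal.Quotient.mk_surjective a
      refine ⟨a • m, ?_⟩
      rw [show Ideal.Quotient.mk (Ideal.span {q}) a = a • (1 : A ⧸ Ideal.span {q}) from
        (mul_one _).symm.trans (Algebra.smul_def a (1 : A ⧸ Ideal.span {q})).symm, TensorProduct.smul_tmul]
    | add x y hx hy =>
      obtain ⟨m, rfl⟩ := hx
      obtain ⟨m', rfl⟩ := hy
      exact ⟨m + m', (TensorProduct.tmul_add _ _ _).symm⟩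
  have hqm : ∀ b : B, (q : A) • (Ideal.Quotient.mk J b : B ⧸ J) = Ideal.Quotient.mk J (f q * b) :=
    fun b => Algebra.smul_def q (Ideal.Quotient.mk J b)
  have hL : Function.Bijective L := by
    refine ⟨?_, fun c => ?_⟩
    · rw [injective_iff_map_eq_zero]
      intro z hz
      obtain ⟨m, rfl⟩ := hone z
      obtain ⟨b, rfl⟩ := Ideal.Quotient.mk_surjective m
      rw [LinearMap.liftBaseChange_tmul, one_smul] at hz
      have h1 : π b ∈ J.map π := Ideal.Quotient.eq_zero_iff_mem.1 hz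
      rw [Ideal.mem_map_iff_of_surjective π hπ] at h1
      obtain ⟨j, hj, hjb⟩ := h1
      have h2 : b - j ∈ RingHom.ker π := by rw [RingHom.mem_ker, map_sub, hjb, sub_self]
      rw [hker] at h2
      obtain ⟨c, hc⟩ := Ideal.mem_span_singleton'.1 h2
      have h3 : (Ideal.Quotient.mk J b : B ⧸ J) = q • Ideal.Quotient.mk J c := by
        rw [hqm, Ideal.Quotient.eq, mul_comm, hc, sub_sub_cancel]
        exact hj
      rw [h3, ← TensorProduct.smul_tmul]
      have : q • (1 : A ⧸ Ideal.span {q}) = 0 := by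
        rw [Algebra.smul_def, mul_one]
        exact Ideal.Quotient.eq_zero_iff_mem.2 (Ideal.mem_span_singleton_self q)
      rw [this, TensorProduct.zero_tmul]
    · obtain ⟨c, rfl⟩ := Ideal.Quotient.mk_surjective c
      obtain ⟨b, rfl⟩ := hπ c
      exact ⟨1 ⊗ₜ Ideal.Quotient.mk J b, by rw [LinearMap.liftBaseChange_tmul, one_smul]; rfl⟩
  haveI : Module.Flat (A ⧸ Ideal.span {q}) ((A ⧸ Ideal.span {q}) ⊗[A] (B ⧸ J)) :=
    Module.Flat.of_linearEquiv (LinearEquiv.ofBijective L hL)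
  show Module.Flat A (B ⧸ J)
  refine FlatNilCrit62.flat_of_nilpotent_injective (J := Ideal.span {q}) ⟨2, ?_⟩ (B ⧸ J) ?_
  · rw [pow_two, Ideal.span_singleton_mul_span_singleton, hq, Ideal.span_singleton_eq_bot.2 rfl]
    rfl
  rw [injective_iff_map_eq_zero]
  intro z hz
  let q' : Ideal.span {q} := ⟨q, Ideal.mem_span_singleton_self q⟩
  obtain ⟨m, rfl⟩ : ∃ m, z = q' ⊗ₜ[A] m := by
    clear hz
    induction z using TensorProduct.induction_on with
    | zero => exact ⟨0, by simp⟩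
    | tmul a m =>
      obtain ⟨c, hc⟩ := Ideal.mem_span_singleton'.1 a.2
      refine ⟨c • m, ?_⟩
      rw [show a = c • q' from Subtype.ext hc.symm, TensorProduct.smul_tmul]
    | add x y hx hy =>
      obtain ⟨m, rfl⟩ := hx
      obtain ⟨m', rfl⟩ := hy
      exact ⟨m + m', (TensorProduct.tmul_add _ _ _).symm⟩
  have hm : q • m = 0 := by
    have := congrArg (TensorProduct.lid A (B ⧸ J)) hz
    rwa [LinearMap.rTensor_tmul, map_zero, TensorProduct.lid_tmul] at this
  obtain ⟨x, rfl⟩ := Ideal.Quotient.mk_surjective m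
  rw [hqm, Ideal.Quotient.eq_zero_iff_mem, hJt] at hm
  obtain ⟨b, hb⟩ := Ideal.mem_span_singleton'.1 hm
  have key : ∀ y, t * y ∈ Ideal.span {f q} → y ∈ Ideal.span {f q} := by
    intro y hy
    refine ht₀ y ?_
    have h1 : t₀ ∈ J ⊔ Ideal.span {f q} := hJ ▸ Ideal.mem_sup_left (Ideal.mem_span_singleton_self t₀)
    rw [hJt] at h1
    obtain ⟨u, hu, v, hv, huv⟩ := Submodule.mem_sup.1 h1
    obtain ⟨u, rfl⟩ := Ideal.mem_span_singleton'.1 hu
    rw [← huv, add_mul, mul_assoc]
    exact add_mem (Ideal.mul_mem_left _ _ hy) (Ideal.mul_mem_right _ _ hv)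
  obtain ⟨c, rfl⟩ := Ideal.mem_span_singleton'.1 (key b (by
    rw [mul_comm, hb]; exact Ideal.mul_mem_right _ _ (Ideal.mem_span_singleton_self _)))
  obtain ⟨y, hy⟩ := exists_eq_mul f hf q hann (x - c * t) (by rw [mul_sub, ← hb]; ring)
  have hx : (Ideal.Quotient.mk J x : B ⧸ J) = q • Ideal.Quotient.mk J y := by
    rw [hqm, Ideal.Quotient.eq, ← hy, sub_sub_cancel, hJt]
    exact Ideal.mem_span_singleton'.2 ⟨c, rfl⟩
  rw [hx, ← TensorProduct.smul_tmul]
  have : q • q' = 0 := Subtype.ext hq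
  rw [this, TensorProduct.zero_tmul]

end Groth.Agent.NCDLift3
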