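import Groth.Prelude.Def_LogNCD
import Groth.Agent.MP99.Ops
import Mathlib.AlgebraicGeometry.Morphisms.Etale
import Mathlib.AlgebraicGeometry.AffineSpace

/-!
Relative normal crossing divisors are stable under base change.
-/

set_option autoImplicit false
set_option linter.style.haveILetI false
set_option backward.isDefEq.respectTransparency false
set_option backward.isDefEq.respectTransparency.types false
universe u

open CategoryTheory CategoryTheory.Limits AlgebraicGeometry Opposite TopologicalSpace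

noncomputable section

namespace Groth.Agent.NCDLift3

variable {X X' S S' : Scheme.{u}} {f : X ⟶ S} {f' : X' ⟶ S'} {a : X' ⟶ X} {g : S' ⟶ S}

theorem sectOn_res {Y : Scheme.{u}} (W : Y.Opens) {U V : Y.Opens} (hU : U ≤ W) (h : V ≤ U) (s : Γ(W, ⊤)) :
    Y.presheaf.map (homOfLE h).op (LogNCD.sectOn W hU s) = LogNCD.sectOn W (h.trans hU) s := by
  rw [LogNCD.sectOn_apply, LogNCD.sectOn_apply, ← ConcreteCategory.comp_apply, ← Functor.map_comp]
  rfl

theorem sectOn_morphismRestrict (a : X' ⟶ X) (W : X.Opens) {U : X.Opens} {U' : X'.Opens} (hU : U ≤ W)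
    (hU' : U' ≤ a ⁻¹ᵁ W) (e : U' ≤ a ⁻¹ᵁ U) (s : Γ(W, ⊤)) :
    a.appLE U U' e (LogNCD.sectOn W hU s) = LogNCD.sectOn (a ⁻¹ᵁ W) hU' ((a ∣_ W).appTop s) := by
  have h : X.presheaf.map (homOfLE hU).op ≫ a.appLE U U' e = a.appLE W U' hU' :=
    Scheme.Hom.map_appLE _ _ _
  have h2 : (a ∣_ W).appTop ≫ (a ⁻¹ᵁ W).topIso.hom ≫ X'.presheaf.map (homOfLE hU').op =
      W.topIso.hom ≫ a.appLE W U' hU' := by
    rw [morphismRestrict_appTop, Scheme.Opens.topIso_hom, Scheme.Opens.topIso_hom, Scheme.Hom.appLE,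
      Category.assoc, a.naturality_assoc, ← Functor.map_comp, ← Functor.map_comp, ← Functor.map_comp]
    rfl
  rw [LogNCD.sectOn_apply, LogNCD.sectOn_apply, ← ConcreteCategory.comp_apply, h,
    ← ConcreteCategory.comp_apply, ← h2]
  rfl

theorem isNCD_comap (hsq : IsPullback a f' f g) {r : ℕ} (D : Fin r → X.IdealSheafData)
    (hD : LogNCD.IsNCD D f) : LogNCD.IsNCD (fun i => (D i).comap a) f' := by
  intro x hx
  have hsupp : ∀ i, x ∈ ((D i).comap a).support ↔ a x ∈ (D i).support := fun i => by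
    rw [Scheme.IdealSheafData.support_comap]; rfl
  obtain ⟨⟨i₀, hi₀⟩⟩ := hx
  obtain ⟨W, hxW, n, v, idx, hinj, het, hideal, hout⟩ := hD (a x) ⟨⟨i₀, (hsupp i₀).1 hi₀⟩⟩
  let W' := a ⁻¹ᵁ W
  let v' : ULift.{u} (Fin n) → Γ(W', ⊤) := fun k => (a ∣_ W).appTop (v k)
  let h := AffineSpace.homOfVector (W.ι ≫ f) v
  let h' := AffineSpace.homOfVector (W'.ι ≫ f') v'
  have hout' : IsPullback (a ∣_ W) (W'.ι ≫ f') (W.ι ≫ f) g :=
    (isPullback_morphismRestrict a W).paste_vert hsq
  have hcomm : (a ∣_ W) ≫ h = h' ≫ AffineSpace.map (ULift.{u} (Fin n)) g := by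
    apply AffineSpace.hom_ext
    · rw [Category.assoc, AffineSpace.homOfVector_over, Category.assoc, AffineSpace.map_over, ← Category.assoc,
        ← Category.assoc, AffineSpace.homOfVector_over, (Category.assoc _ _ _), hout'.w]
    · intro k
      rw [Scheme.Hom.comp_appTop, Scheme.Hom.comp_appTop, CommRingCat.comp_apply, CommRingCat.comp_apply,
        AffineSpace.map_appTop_coord, AffineSpace.homOfVector_appTop_coord, AffineSpace.homOfVector_appTop_coord]
  have htop : IsPullback (a ∣_ W) h' h (AffineSpace.map (ULift.{u} (Fin n)) g) := by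
    refine IsPullback.of_bot ?_ hcomm (AffineSpace.isPullback_map g)
    rw [AffineSpace.homOfVector_over, AffineSpace.homOfVector_over]
    exact hout'
  let e : LogNCD.Through (fun i => (D i).comap a) x → Fin n := fun i => idx ⟨i.1, (hsupp i.1).1 i.2⟩
  refine ⟨W', hxW, n, v', e, fun i i' hii => ?_, ?_, ?_, ?_⟩
  · exact Subtype.ext (congrArg (fun j : LogNCD.Through D (a x) => j.1) (hinj hii))
  · haveI : Etale h := het
    exact MorphismProperty.of_isPullback htop inferInstance
  · intro i U' hU'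
    haveI : IsAffine (U'.1 : Scheme.{u}) := U'.2
    suffices hc : ((D i.1).comap a).comap U'.1.ι =
        Scheme.IdealSheafData.ofIdealTop
          (Ideal.span {U'.1.topIso.inv (LogNCD.sectOn W' hU' (v' (ULift.up (e i))))}) by
      have h1 := congrArg (fun K => K.ideal ⟨⊤, isAffineOpen_top _⟩) hc
      simp only [MP99.ideal_comap _ U'.1.ι U' ⟨⊤, isAffineOpen_top _⟩ U'.1.ι_preimage_self.ge,
        Scheme.IdealSheafData.ofIdealTop_ideal, Ideal.map_span, Set.image_singleton] at h1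
      have h2 := congrArg (Ideal.map U'.1.topIso.hom.hom) h1
      rw [Ideal.map_map, ← CommRingCat.hom_comp, Ideal.map_span, Set.image_singleton] at h2
      have h3 : U'.1.ι.appLE U'.1 ⊤ U'.1.ι_preimage_self.ge ≫ U'.1.topIso.hom = 𝟙 _ := by
        rw [Scheme.Opens.ι_appLE, Scheme.Opens.topIso_hom, ← Functor.map_comp]
        exact (X'.presheaf.congr_map (Subsingleton.elim _ (𝟙 _))).trans (CategoryTheory.Functor.map_id _ _)
      rw [h3, CommRingCat.hom_id, Ideal.map_id] at h2
      rw [h2]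
      congr 2
      rw [show (U'.1 : Scheme.{u}).presheaf.map (homOfLE (le_top : (⊤ : (U'.1 : Scheme.{u}).Opens) ≤ ⊤)).op = 𝟙 _ from
        CategoryTheory.Functor.map_id _ _]
      exact Iso.inv_hom_id_apply U'.1.topIso _
    refine MP99.eq_of_local fun z => ?_
    obtain ⟨U, hU, hUW⟩ := MP99.exists_affine_le (W := W) (a z.1) (hU' z.2)
    obtain ⟨V, hV, hVle⟩ := MP99.exists_affine_le (W := a ⁻¹ᵁ U.1 ⊓ U'.1) z.1 ⟨hU, z.2⟩
    let V' : (U'.1 : Scheme.{u}).affineOpens :=
      ⟨U'.1.ι ⁻¹ᵁ V.1, V.2.preimage_of_isOpenImmersion U'.1.ι (by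
        rw [Scheme.Opens.opensRange_ι]; exact hVle.trans inf_le_right)⟩
    refine ⟨V', hV, ?_⟩
    rw [← Scheme.IdealSheafData.comap_comp,
      MP99.ideal_comap _ (U'.1.ι ≫ a) U V' (fun w hw => (hVle hw).1), hideal ⟨i.1, (hsupp i.1).1 i.2⟩ U hUW,
      Ideal.map_span, Set.image_singleton, Scheme.IdealSheafData.ofIdealTop_ideal, Ideal.map_span,
      Set.image_singleton, ← Scheme.Hom.appLE_comp_appLE U'.1.ι a U.1 V.1 V'.1 (hVle.trans inf_le_left) le_rfl]
    congr 2
    rw [CommRingCat.hom_comp, RingHom.comp_apply,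
      sectOn_morphismRestrict a W hUW ((hVle.trans inf_le_right).trans hU') (hVle.trans inf_le_left),
      ← sectOn_res W' hU' (hVle.trans inf_le_right)]
    show U'.1.ι.appLE V.1 V'.1 le_rfl (X'.presheaf.map _ _) = _
    rw [← ConcreteCategory.comp_apply, Scheme.Hom.map_appLE, Scheme.Opens.ι_appLE, Scheme.Opens.topIso_inv,
      ← ConcreteCategory.comp_apply]
    show _ = (X'.presheaf.map _ ≫ X'.presheaf.map _) _
    rw [← Functor.map_comp]
    rfl
  · intro i hi U' hU'
    have hi' : a x ∉ (D i).support := fun h1 => hi ((hsupp i).2 h1)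
    have hle : (⊤ : X'.IdealSheafData).ideal U' ≤ ((D i).comap a).ideal U' := by
      haveI : IsAffine (U'.1 : Scheme.{u}) := U'.2
      suffices hc : ((D i).comap a).comap U'.1.ι = ⊤ by
        have h1 := congrArg (fun K => K.ideal ⟨⊤, isAffineOpen_top _⟩) hc
        simp only [MP99.ideal_comap _ U'.1.ι U' ⟨⊤, isAffineOpen_top _⟩ U'.1.ι_preimage_self.ge,
          Scheme.IdealSheafData.ideal_top, Pi.top_apply] at h1
        have h2 := congrArg (Ideal.map U'.1.topIso.hom.hom) h1
        rw [Ideal.map_map, ← CommRingCat.hom_comp, Ideal.map_top] at h2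
        have h3 : U'.1.ι.appLE U'.1 ⊤ U'.1.ι_preimage_self.ge ≫ U'.1.topIso.hom = 𝟙 _ := by
          rw [Scheme.Opens.ι_appLE, Scheme.Opens.topIso_hom, ← Functor.map_comp]
          exact (X'.presheaf.congr_map (Subsingleton.elim _ (𝟙 _))).trans (CategoryTheory.Functor.map_id _ _)
        rw [h3, CommRingCat.hom_id, Ideal.map_id] at h2
        rw [h2]
        exact le_top
      refine MP99.eq_of_local fun z => ?_
      obtain ⟨U, hU, hUW⟩ := MP99.exists_affine_le (W := W) (a z.1) (hU' z.2)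
      obtain ⟨V, hV, hVle⟩ := MP99.exists_affine_le (W := a ⁻¹ᵁ U.1 ⊓ U'.1) z.1 ⟨hU, z.2⟩
      let V' : (U'.1 : Scheme.{u}).affineOpens :=
        ⟨U'.1.ι ⁻¹ᵁ V.1, V.2.preimage_of_isOpenImmersion U'.1.ι (by
          rw [Scheme.Opens.opensRange_ι]; exact hVle.trans inf_le_right)⟩
      refine ⟨V', hV, ?_⟩
      rw [← Scheme.IdealSheafData.comap_comp,
        MP99.ideal_comap _ (U'.1.ι ≫ a) U V' (fun w hw => (hVle hw).1), hout i hi' U hUW, Ideal.map_top,
        Scheme.IdealSheafData.ideal_top]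
      rfl
    rwa [Scheme.IdealSheafData.ideal_top, Pi.top_apply, top_le_iff] at hle

end Groth.Agent.NCDLift3
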