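import Groth.Agent.NCDLift3.UniqAlg
import Mathlib.RingTheory.Finiteness.Basic
import Mathlib.RingTheory.RingHom.Finite

/-!
Lifts of a ring map between reductions modulo `q`, and how a derivation along the map moves the image of an ideal.
-/

set_option autoImplicit false

namespace Groth.Agent.NCDLift3.SemiAlg

open UniqAlg

universe u

variable {B₁ B₂ B B' : Type u} [CommRing B₁] [CommRing B₂] [CommRing B] [CommRing B'] {q₁ : B₁} {q₂ : B₂}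
  {π₁ : B₁ →+* B} {π₂ : B₂ →+* B'} {φ : B' →+* B}

/-- Moving a map of lifts by a derivation along the reduction. -/
noncomputable def perturb (h : IsLift q₁ π₁) (χ : B₂ →+* B₁) (hχ : π₁.comp χ = φ.comp π₂) (δ : B' →+ B)
    (hδ : ∀ a b, δ (a * b) = φ a * δ b + φ b * δ a) : B₂ →+* B₁ where
  toFun x := χ x + theta h (δ (π₂ x))
  map_one' := by
    have h1 : δ 1 = 0 := by simpa using hδ 1 1
    rw [map_one, map_one, h1, map_zero, add_zero]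
  map_zero' := by simp
  map_add' x y := by simp only [map_add]; abel
  map_mul' x y := by
    have hx : ∀ x, π₁ (χ x) = φ (π₂ x) := fun x => congr($hχ x)
    rw [map_mul, map_mul, hδ, map_add, ← hx x, ← hx y, theta_mul, theta_mul, add_mul, mul_add, mul_add,
      theta_mul_theta]
    ring

theorem perturb_apply (h : IsLift q₁ π₁) (χ : B₂ →+* B₁) (hχ : π₁.comp χ = φ.comp π₂) (δ : B' →+ B)
    (hδ : ∀ a b, δ (a * b) = φ a * δ b + φ b * δ a) (x : B₂) :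
    perturb h χ hχ δ hδ x = χ x + theta h (δ (π₂ x)) := rfl

theorem comp_perturb (h : IsLift q₁ π₁) (χ : B₂ →+* B₁) (hχ : π₁.comp χ = φ.comp π₂) (δ : B' →+ B)
    (hδ : ∀ a b, δ (a * b) = φ a * δ b + φ b * δ a) : π₁.comp (perturb h χ hχ δ hδ) = φ.comp π₂ :=
  RingHom.ext fun x => by
    show π₁ (χ x + theta h (δ (π₂ x))) = φ (π₂ x)
    rw [map_add, map_theta, add_zero]
    exact congr($hχ x)

/-- A lift of a finite map is finite. -/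
theorem finite_of_finite (h₁ : IsLift q₁ π₁) (h₂ : IsLift q₂ π₂) (χ : B₂ →+* B₁) (hχ : π₁.comp χ = φ.comp π₂)
    (hq : χ q₂ = q₁) (hφ : φ.Finite) : χ.Finite := by
  classical
  letI : Algebra B' B := φ.toAlgebra
  letI : Algebra B₂ B₁ := χ.toAlgebra
  haveI : Module.Finite B' B := hφ
  obtain ⟨n, s, hs⟩ := Module.Finite.exists_fin (R := B') (M := B)
  let b := fun i => Function.surjInv h₁.surj (s i)
  have hb : ∀ i, π₁ (b i) = s i := fun i => Function.surjInv_eq h₁.surj _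
  show Module.Finite B₂ B₁
  refine ⟨⟨Finset.univ.image b, eq_top_iff.2 fun x _ => ?_⟩⟩
  have key : ∀ y : B₁, ∃ c : Fin n → B₂, π₁ (y - ∑ i, χ (c i) * b i) = 0 := fun y => by
    obtain ⟨c, hc⟩ := (Submodule.mem_span_range_iff_exists_fun B').1 (hs ▸ Submodule.mem_top : π₁ y ∈ _)
    choose c' hc' using fun i => h₂.surj (c i)
    refine ⟨c', ?_⟩
    rw [map_sub, map_sum, sub_eq_zero, ← hc]
    refine Finset.sum_congr rfl fun i _ => ?_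
    rw [map_mul, hb, show π₁ (χ (c' i)) = φ (π₂ (c' i)) from congr($hχ (c' i)), hc']
    rfl
  obtain ⟨c, hc⟩ := key x
  obtain ⟨y, hy⟩ := h₁.exists_mul hc
  obtain ⟨d, hd⟩ := key y
  obtain ⟨z, hz⟩ := h₁.exists_mul hd
  have hx : x = ∑ i, χ (c i + q₂ * d i) * b i := by
    rw [eq_add_of_sub_eq' hy, eq_add_of_sub_eq' hz, mul_add, Finset.mul_sum, ← mul_assoc q₁ q₁ z, h₁.sq, zero_mul,
      add_zero, ← Finset.sum_add_distrib]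
    refine Finset.sum_congr rfl fun i _ => ?_
    rw [map_add, map_mul, hq]
    ring
  rw [hx]
  exact Submodule.sum_mem _ fun i _ => Submodule.smul_mem _ (c i + q₂ * d i)
    (Submodule.subset_span (Finset.mem_coe.2 (Finset.mem_image_of_mem b (Finset.mem_univ i))))

section Ideal

variable (h₁ : IsLift q₁ π₁) (h₂ : IsLift q₂ π₂) (χ : B₂ →+* B₁) (hχ : π₁.comp χ = φ.comp π₂) (hq : χ q₂ = q₁)
  (J₁ : Ideal B₁) (J₂ : Ideal B₂) (I : Ideal B') (hJ₁ : J₁.map π₁ = I.map φ) (hJ₂ : J₂.map π₂ = I)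
  (hp₁ : ∀ x ∈ J₁, π₁ x = 0 → ∃ y, π₁ y ∈ I.map φ ∧ x = q₁ * y)
  (hp₂ : ∀ x ∈ J₂, π₂ x = 0 → ∃ y ∈ J₂, x = q₂ * y)

/-- `c` measures how far `χ` is from sending `J₂` into `J₁` at `b`. -/
def IsDisc (φ : B' →+* B) (b : B') (c : B) : Prop :=
  ∃ b₁ ∈ J₁, ∃ b₂ ∈ J₂, π₁ b₁ = φ b ∧ π₂ b₂ = b ∧ ∃ y, χ b₂ - b₁ = q₁ * y ∧ π₁ y = c

include h₁ h₂ hχ hJ₁ hJ₂ in
theorem exists_isDisc {b : B'} (hb : b ∈ I) :
    ∃ c, IsDisc (q₁ := q₁) (π₁ := π₁) (π₂ := π₂) χ J₁ J₂ φ b c := by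
  obtain ⟨b₁, hb₁, e₁⟩ := (Ideal.mem_map_iff_of_surjective π₁ h₁.surj).1 (hJ₁ ▸ Ideal.mem_map_of_mem φ hb)
  obtain ⟨b₂, hb₂, e₂⟩ := (Ideal.mem_map_iff_of_surjective π₂ h₂.surj).1 (hJ₂ ▸ hb)
  obtain ⟨y, hy⟩ := h₁.exists_mul (show π₁ (χ b₂ - b₁) = 0 by
    rw [map_sub, show π₁ (χ b₂) = φ (π₂ b₂) from congr($hχ b₂), e₁, e₂, sub_self])
  exact ⟨π₁ y, b₁, hb₁, b₂, hb₂, e₁, e₂, y, hy, rfl⟩

variable {χ J₁ J₂}

include h₁ hχ hq hJ₂ hp₁ hp₂ in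
theorem isDisc_unique {b : B'} {c c' : B} (h : IsDisc (q₁ := q₁) (π₁ := π₁) (π₂ := π₂) χ J₁ J₂ φ b c)
    (h' : IsDisc (q₁ := q₁) (π₁ := π₁) (π₂ := π₂) χ J₁ J₂ φ b c') : c - c' ∈ I.map φ := by
  obtain ⟨b₁, hb₁, b₂, hb₂, e₁, e₂, y, hy, rfl⟩ := h
  obtain ⟨b₁', hb₁', b₂', hb₂', e₁', e₂', y', hy', rfl⟩ := h'
  obtain ⟨y₁, hy₁, hy₁e⟩ := hp₁ _ (sub_mem hb₁ hb₁') (by rw [map_sub, e₁, e₁', sub_self])
  obtain ⟨y₂, hy₂, hy₂e⟩ := hp₂ _ (sub_mem hb₂ hb₂') (by rw [map_sub, e₂, e₂', sub_self])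
  have h2 : χ b₂ - χ b₂' = q₁ * χ y₂ := by rw [← map_sub, hy₂e, map_mul, hq]
  have h1 : π₁ (y - y') = π₁ (χ y₂ - y₁) := h₁.eq_of_mul_eq (by linear_combination h2 - hy₁e - hy + hy')
  rw [← map_sub, h1, map_sub, show π₁ (χ y₂) = φ (π₂ y₂) from congr($hχ y₂)]
  exact sub_mem (Ideal.mem_map_of_mem φ (hJ₂ ▸ Ideal.mem_map_of_mem π₂ hy₂)) hy₁

include h₂ hχ in
theorem IsDisc.smul {b : B'} {c : B} (h : IsDisc (q₁ := q₁) (π₁ := π₁) (π₂ := π₂) χ J₁ J₂ φ b c) (a : B') :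
    IsDisc (q₁ := q₁) (π₁ := π₁) (π₂ := π₂) χ J₁ J₂ φ (a * b) (φ a * c) := by
  obtain ⟨b₁, hb₁, b₂, hb₂, e₁, e₂, y, hy, rfl⟩ := h
  obtain ⟨a₂, rfl⟩ := h₂.surj a
  have ha : π₁ (χ a₂) = φ (π₂ a₂) := congr($hχ a₂)
  exact ⟨χ a₂ * b₁, J₁.mul_mem_left _ hb₁, a₂ * b₂, J₂.mul_mem_left _ hb₂, by rw [map_mul, ha, e₁, map_mul],
    by rw [map_mul, e₂], χ a₂ * y, by rw [map_mul]; linear_combination χ a₂ * hy, by rw [map_mul, ha]⟩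

theorem IsDisc.add {b b' : B'} {c c' : B} (h : IsDisc (q₁ := q₁) (π₁ := π₁) (π₂ := π₂) χ J₁ J₂ φ b c)
    (h' : IsDisc (q₁ := q₁) (π₁ := π₁) (π₂ := π₂) χ J₁ J₂ φ b' c') :
    IsDisc (q₁ := q₁) (π₁ := π₁) (π₂ := π₂) χ J₁ J₂ φ (b + b') (c + c') := by
  obtain ⟨b₁, hb₁, b₂, hb₂, e₁, e₂, y, hy, rfl⟩ := h
  obtain ⟨b₁', hb₁', b₂', hb₂', e₁', e₂', y', hy', rfl⟩ := h'
  exact ⟨b₁ + b₁', add_mem hb₁ hb₁', b₂ + b₂', add_mem hb₂ hb₂', by rw [map_add, e₁, e₁', map_add],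
    by rw [map_add, e₂, e₂'], y + y', by rw [map_add]; linear_combination hy + hy', map_add _ _ _⟩

theorem IsDisc.perturb {b : B'} {c : B} (h : IsDisc (q₁ := q₁) (π₁ := π₁) (π₂ := π₂) χ J₁ J₂ φ b c) (δ : B' →+ B)
    (hδ : ∀ a b, δ (a * b) = φ a * δ b + φ b * δ a) :
    IsDisc (q₁ := q₁) (π₁ := π₁) (π₂ := π₂) (SemiAlg.perturb h₁ χ hχ δ hδ) J₁ J₂ φ b (c + δ b) := by
  obtain ⟨b₁, hb₁, b₂, hb₂, e₁, e₂, y, hy, rfl⟩ := h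
  obtain ⟨z, hz⟩ := h₁.surj (δ b)
  refine ⟨b₁, hb₁, b₂, hb₂, e₁, e₂, y + z, ?_, by rw [map_add, hz]⟩
  rw [perturb_apply, e₂, ← hz, theta_map]
  linear_combination hy

include h₁ h₂ hχ hq hJ₁ hJ₂ hp₁ hp₂ in
theorem map_eq (h : ∀ b ∈ I, ∃ c ∈ I.map φ, IsDisc (q₁ := q₁) (π₁ := π₁) (π₂ := π₂) χ J₁ J₂ φ b c) :
    J₂.map χ = J₁ := by
  have hx : ∀ x, π₁ (χ x) = φ (π₂ x) := fun x => congr($hχ x)
  have hle : J₂.map χ ≤ J₁ := by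
    rw [Ideal.map_le_iff_le_comap]
    intro x hxJ
    have hb : π₂ x ∈ I := hJ₂ ▸ Ideal.mem_map_of_mem π₂ hxJ
    obtain ⟨b₁, hb₁, e₁⟩ := (Ideal.mem_map_iff_of_surjective π₁ h₁.surj).1 (hJ₁ ▸ Ideal.mem_map_of_mem φ hb)
    obtain ⟨y, hy⟩ := h₁.exists_mul (show π₁ (χ x - b₁) = 0 by rw [map_sub, hx, e₁, sub_self])
    have hd : IsDisc (q₁ := q₁) (π₁ := π₁) (π₂ := π₂) χ J₁ J₂ φ (π₂ x) (π₁ y) :=
      ⟨b₁, hb₁, x, hxJ, e₁, rfl, y, hy, rfl⟩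
    obtain ⟨c, hc, hdc⟩ := h _ hb
    have hy' : π₁ y ∈ I.map φ := by
      have := add_mem (isDisc_unique h₁ hχ hq I hJ₂ hp₁ hp₂ hd hdc) hc
      rwa [sub_add_cancel] at this
    obtain ⟨j, hj, hje⟩ := (Ideal.mem_map_iff_of_surjective π₁ h₁.surj).1 (hJ₁ ▸ hy')
    show χ x ∈ J₁
    rw [show χ x = b₁ + q₁ * j by rw [h₁.mul_eq hje]; linear_combination hy]
    exact add_mem hb₁ (J₁.mul_mem_left _ hj)
  refine le_antisymm hle fun x hxJ => ?_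
  have hM : (J₂.map χ).map π₁ = I.map φ := by rw [Ideal.map_map, hχ, ← Ideal.map_map, hJ₂]
  obtain ⟨m, hm, hme⟩ := (Ideal.mem_map_iff_of_surjective π₁ h₁.surj).1
    (hM.ge (hJ₁ ▸ Ideal.mem_map_of_mem π₁ hxJ))
  obtain ⟨y, hy, hye⟩ := hp₁ _ (sub_mem hxJ (hle hm)) (by rw [map_sub, hme, sub_self])
  obtain ⟨m', hm', hme'⟩ := (Ideal.mem_map_iff_of_surjective π₁ h₁.surj).1 (hM.ge hy)
  rw [eq_add_of_sub_eq' hye, ← h₁.mul_eq hme']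
  exact add_mem hm (Ideal.mul_mem_left _ _ hm')

end Ideal

end Groth.Agent.NCDLift3.SemiAlg
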