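import Groth.Agent.NCDLift3.UniqDeriv
import Mathlib.Algebra.Module.LocalizedModule.IsLocalization
import Mathlib.RingTheory.Localization.Away.Basic

/-!
Vector fields along a ring map with prescribed normal components along the components of a normal crossing divisor.
-/

set_option autoImplicit false
set_option linter.style.haveILetI false
set_option backward.isDefEq.respectTransparency false
set_option backward.isDefEq.respectTransparency.types false
universe u

open CategoryTheory CategoryTheory.Limits AlgebraicGeometry Opposite TopologicalSpace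

noncomputable section

namespace Groth.Agent.NCDLift3

open Groth.Agent QC70 Props58.LocFree

variable {X S : Scheme.{u}} (f : X ⟶ S) [QuasiSeparated f]

/-- The combinations satisfying a derivation congruence along a ring map form a submodule. -/
def congrSubSemi {B C M : Type u} [CommRing B] [CommRing C] [Algebra B C] [AddCommGroup M] [Module B M]
    (I : Ideal B) (d : B →+ M) (hd : ∀ a b, d (a * b) = a • d b + b • d a) (w : B → C)
    (hadd : ∀ b ∈ I, ∀ b' ∈ I, w (b + b') - w b - w b' ∈ I.map (algebraMap B C))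
    (hsmul : ∀ a, ∀ b ∈ I, w (a * b) - algebraMap B C a * w b ∈ I.map (algebraMap B C))
    (c : B) (ψ : M →ₗ[B] C) : Submodule B B where
  carrier := {b | b ∈ I ∧ algebraMap B C c * w b + ψ (d b) ∈ I.map (algebraMap B C)}
  zero_mem' := ⟨I.zero_mem, by
    have h := hsmul 0 0 I.zero_mem
    simp only [mul_zero, map_zero, zero_mul, sub_zero] at h
    rw [map_zero, map_zero, add_zero]
    exact Ideal.mul_mem_left _ _ h⟩
  add_mem' := by
    rintro b b' ⟨hb, hb'⟩ ⟨hc, hc'⟩
    refine ⟨add_mem hb hc, ?_⟩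
    have h := add_mem (add_mem hb' hc') (Ideal.mul_mem_left _ (algebraMap B C c) (hadd b hb b' hc))
    rw [map_add, map_add]
    convert h using 1
    ring
  smul_mem' := by
    rintro a b ⟨hb, hb'⟩
    refine ⟨I.mul_mem_left _ hb, ?_⟩
    have h := add_mem (add_mem (Ideal.mul_mem_left _ (algebraMap B C a) hb')
      (Ideal.mul_mem_left _ (algebraMap B C c) (hsmul a b hb)))
      (Ideal.mul_mem_right (ψ (d a)) _ (Ideal.mem_map_of_mem (algebraMap B C) hb))
    rw [smul_eq_mul, hd, map_add, map_smul, map_smul, Algebra.smul_def, Algebra.smul_def]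
    convert h using 1
    ring

set_option maxHeartbeats 1000000 in
/-- Surjectivity of vector fields along a ring map onto normal fields of the components. -/
theorem exists_linear_congr_semi [IsAffine X] [IsNoetherianRing Γ(X, ⊤)] [LocallyOfFiniteType f] {r : ℕ}
    (D : Fin r → X.IdealSheafData) (hD : LogNCD.IsNCD D f) (C : Type u) [CommRing C] [Algebra Γ(X, ⊤) C]
    (w : Fin r → Γ(X, ⊤) → C)
    (hadd : ∀ m, ∀ b ∈ (D m).ideal ⟨⊤, isAffineOpen_top X⟩, ∀ b' ∈ (D m).ideal ⟨⊤, isAffineOpen_top X⟩,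
      w m (b + b') - w m b - w m b' ∈ ((D m).ideal ⟨⊤, isAffineOpen_top X⟩).map (algebraMap Γ(X, ⊤) C))
    (hsmul : ∀ m a, ∀ b ∈ (D m).ideal ⟨⊤, isAffineOpen_top X⟩,
      w m (a * b) - algebraMap Γ(X, ⊤) C a * w m b ∈
        ((D m).ideal ⟨⊤, isAffineOpen_top X⟩).map (algebraMap Γ(X, ⊤) C)) :
    ∃ ψ : Γ(Omega.sheaf f, ⊤) →ₗ[Γ(X, ⊤)] C, ∀ m, ∀ b ∈ (D m).ideal ⟨⊤, isAffineOpen_top X⟩,
      w m b + ψ (OmegaSh.dSect f ⊤ b) ∈ ((D m).ideal ⟨⊤, isAffineOpen_top X⟩).map (algebraMap Γ(X, ⊤) C) := by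
  classical
  let B := Γ(X, ⊤)
  let T : X.affineOpens := ⟨⊤, isAffineOpen_top X⟩
  let M := Γ(Omega.sheaf f, ⊤)
  let d : B →+ M := AddMonoidHom.mk' (OmegaSh.dSect f ⊤) (OmegaSh.dSect_add f ⊤)
  have hd : ∀ a b, d (a * b) = a • d b + b • d a := OmegaSh.dSect_mul f ⊤
  let al : B →+* C := algebraMap B C
  let good : Ideal B :=
    { carrier := {c | ∃ ψ : M →ₗ[B] C, ∀ m, ∀ b ∈ (D m).ideal T, al c * w m b + ψ (d b) ∈ ((D m).ideal T).map al}
      zero_mem' := ⟨0, fun m b _ => by simp⟩
      add_mem' := by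
        rintro c c' ⟨ψ, h⟩ ⟨ψ', h'⟩
        refine ⟨ψ + ψ', fun m b hb => ?_⟩
        convert add_mem (h m b hb) (h' m b hb) using 1
        rw [LinearMap.add_apply, map_add]; ring
      smul_mem' := by
        rintro a c ⟨ψ, h⟩
        refine ⟨a • ψ, fun m b hb => ?_⟩
        convert Ideal.mul_mem_left _ (al a) (h m b hb) using 1
        rw [LinearMap.smul_apply, smul_eq_mul, map_mul, Algebra.smul_def]; ring }
  suffices hgood : good = ⊤ by
    obtain ⟨ψ, h⟩ := (Ideal.eq_top_iff_one good).1 hgood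
    exact ⟨ψ, fun m b hb => by have h1 := h m b hb; rwa [map_one, one_mul] at h1⟩
  by_contra hne
  obtain ⟨P, hP, hle⟩ := Ideal.exists_le_maximal _ hne
  let x : X := (isAffineOpen_top X).fromSpec ⟨P, hP.isPrime⟩
  suffices hx : ∃ h : B, x ∈ X.basicOpen h ∧ ∃ k, h ^ k ∈ good by
    obtain ⟨h, hxh, k, hk⟩ := hx
    have h2 : (⟨P, hP.isPrime⟩ : Spec Γ(X, ⊤)) ∈ (isAffineOpen_top X).fromSpec ⁻¹ᵁ X.basicOpen h := hxh
    rw [IsAffineOpen.fromSpec_preimage_basicOpen] at h2
    exact h2 (hP.isPrime.mem_of_pow_mem k (hle hk))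
  -- the chart
  obtain ⟨_, ⟨A, hA, rfl⟩, hxA, -⟩ := S.isBasis_affineOpens.exists_subset_of_mem_open
    (show f x ∈ (⊤ : S.Opens) from trivial) (⊤ : S.Opens).isOpen
  have chart : ∃ h : B, x ∈ X.basicOpen h ∧ ∃ (e : X.basicOpen h ≤ f ⁻¹ᵁ A)
      (val : (Fin r → Γ(X, X.basicOpen h)) → Γ(Omega.sheaf f, X.basicOpen h) →ₗ[Γ(X, X.basicOpen h)] Γ(X, X.basicOpen h))
      (t : Fin r → Γ(X, X.basicOpen h)),
      (∀ m, (D m).ideal ⟨X.basicOpen h, (isAffineOpen_top X).basicOpen h⟩ = Ideal.span {t m}) ∧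
      ∀ v m, t m = 1 ∨ val v (OmegaSh.dSect f _ (t m)) = v m := by
    by_cases hthr : Nonempty (LogNCD.Through D x)
    · obtain ⟨W, hxW, n, v, idx, hinj, het, hideal, hout⟩ := hD x hthr
      obtain ⟨h, hle', hxh⟩ := (isAffineOpen_top X).exists_basicOpen_le
        ⟨x, show x ∈ W ⊓ f ⁻¹ᵁ A from ⟨hxW, hxA⟩⟩ trivial
      have hVW : X.basicOpen h ≤ W := hle'.trans inf_le_left
      have hVA : X.basicOpen h ≤ f ⁻¹ᵁ A := hle'.trans inf_le_right
      have hV := (isAffineOpen_top X).basicOpen h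
      obtain ⟨φ, hφ, hφX, hφC⟩ := exists_etale_coord f v het ⟨A, hA⟩ hV hVW hVA
      choose l hl using fun val => exists_linear_coord f hV ⟨A, hA⟩ hVA φ hφ hφC val
      let t : Fin r → Γ(X, X.basicOpen h) := fun m =>
        if hm : x ∈ (D m).support then LogNCD.sectOn W hVW (v (ULift.up (idx ⟨m, hm⟩))) else 1
      refine ⟨h, hxh, hVA, fun u => l fun a => if ha : ∃ m, ∃ hm : x ∈ (D m).support, ULift.up (idx ⟨m, hm⟩) = a
        then u ha.choose else 0, t, fun m => ?_, fun u m => ?_⟩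
      · show _ = Ideal.span {dite _ _ _}
        split_ifs with hm
        · exact hideal ⟨m, hm⟩ ⟨_, hV⟩ hVW
        · rw [Ideal.span_singleton_one]
          exact hout m hm ⟨_, hV⟩ hVW
      · by_cases hm : x ∈ (D m).support
        · right
          rw [show t m = φ (MvPolynomial.X (ULift.up (idx ⟨m, hm⟩))) from (dif_pos hm).trans (hφX _).symm, hl]
          have ha : ∃ m', ∃ hm' : x ∈ (D m').support, ULift.up (idx ⟨m', hm'⟩) = ULift.up (idx ⟨m, hm⟩) :=
            ⟨m, hm, rfl⟩
          rw [dif_pos ha]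
          obtain ⟨hm', he⟩ := ha.choose_spec
          exact congrArg u (congrArg Subtype.val (hinj (ULift.up.inj he)))
        · exact Or.inl (dif_neg hm)
    · let O : X.Opens :=
        ⟨(⋃ m, ((D m).support : Set X))ᶜ, (isClosed_iUnion_of_finite fun m => (D m).support.2).isOpen_compl⟩
      have hxO : x ∈ O := fun hx => by
        obtain ⟨m, hm⟩ := Set.mem_iUnion.1 hx
        exact hthr ⟨⟨m, hm⟩⟩
      obtain ⟨h, hle', hxh⟩ := (isAffineOpen_top X).exists_basicOpen_le
        ⟨x, show x ∈ O ⊓ f ⁻¹ᵁ A from ⟨hxO, hxA⟩⟩ trivial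
      refine ⟨h, hxh, hle'.trans inf_le_right, fun _ => 0, fun _ => 1, fun m => ?_, fun _ _ => Or.inl rfl⟩
      rw [Ideal.span_singleton_one]
      by_contra hne
      obtain ⟨Q, hQ, hleQ⟩ := Ideal.exists_le_maximal _ hne
      have hV := (isAffineOpen_top X).basicOpen h
      let y := hV.fromSpec ⟨Q, hQ.isPrime⟩
      have hy : y ∈ X.basicOpen h := hV.range_fromSpec.le ⟨_, rfl⟩
      refine (hle' hy).1 (Set.mem_iUnion.2 ⟨m, ?_⟩)
      have h3 := ((D m).coe_support_inter ⟨_, hV⟩).ge
        (show y ∈ X.zeroLocus (U := X.basicOpen h) ((D m).ideal ⟨_, hV⟩) ∩ X.basicOpen h from ⟨?_, hy⟩)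
      exact h3.1
      rw [Scheme.mem_zeroLocus_iff]
      intro a ha hya
      have h2 : (⟨Q, hQ.isPrime⟩ : Spec Γ(X, X.basicOpen h)) ∈ hV.fromSpec ⁻¹ᵁ X.basicOpen a := hya
      rw [IsAffineOpen.fromSpec_preimage_basicOpen] at h2
      exact h2 (hleQ ha)
  obtain ⟨h, hxh, -, val, t, ht, hval⟩ := chart
  refine ⟨h, hxh, ?_⟩
  let V := X.basicOpen h
  have hV : V ≤ ⊤ := X.basicOpen_le h
  letI : Algebra B Γ(X, V) := resAlg hV
  haveI hloc : IsLocalization.Away h Γ(X, V) := isLocalization_resAlg (isAffineOpen_top X) h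
  let Ch := Localization.Away (al h)
  let toCh : C →+* Ch := algebraMap C Ch
  have hu0 : IsUnit ((toCh.comp al) h) := IsLocalization.Away.algebraMap_isUnit (al h)
  let φh : Γ(X, V) →+* Ch := IsLocalization.Away.lift h hu0
  have hφh : ∀ a, φh (resO X hV a) = toCh (al a) := fun a => IsLocalization.Away.lift_eq h hu0 a
  haveI : IsLocalization (Algebra.algebraMapSubmonoid C (Submonoid.powers h)) Ch := by
    rw [Algebra.algebraMapSubmonoid, Submonoid.map_powers]
    exact (inferInstance : IsLocalization (Submonoid.powers (al h)) Ch)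
  haveI : IsLocalizedModule (Submonoid.powers h) (IsScalarTower.toAlgHom B C Ch).toLinearMap :=
    isLocalizedModule_iff_isLocalization.2 inferInstance
  have hmap : ∀ m, ((D m).ideal T).map (algebraMap B Γ(X, V)) = Ideal.span {t m} := fun m => by
    rw [← ht m]
    exact (D m).map_ideal_basicOpen T h
  have hK : ∀ m, (((D m).ideal T).map al).map toCh = Ideal.span {φh (t m)} := fun m => by
    rw [Ideal.map_map, show toCh.comp al = φh.comp (algebraMap B Γ(X, V)) from RingHom.ext fun a => (hφh a).symm,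
      ← Ideal.map_map, hmap, Ideal.map_span, Set.image_singleton]
  have hsurj : ∀ m, ∃ t' ∈ (D m).ideal T, ∃ s : Γ(X, V), IsUnit s ∧ t m * s = resO X hV t' := by
    intro m
    obtain ⟨⟨⟨t', ht'⟩, ⟨s, hs⟩⟩, he⟩ := (IsLocalization.mem_map_algebraMap_iff (Submonoid.powers h) Γ(X, V)).1
      (hmap m ▸ Ideal.mem_span_singleton_self (t m))
    exact ⟨t', ht', _, IsLocalization.map_units Γ(X, V) ⟨s, hs⟩, he⟩
  choose t' ht' s hs hts using hsurj
  let cst : Fin r → Ch := fun k => -(toCh (w k (t' k))) * φh ((hs k).unit⁻¹ : Γ(X, V)ˣ)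
  let G : Γ(Omega.sheaf f, V) →+ Ch := AddMonoidHom.mk'
    (fun z => ∑ k, cst k * φh (val (fun m => if m = k then 1 else 0) z)) fun a b => by
      simp only [map_add, mul_add, Finset.sum_add_distrib]
  have hG : ∀ (a : Γ(X, V)) z, G (a • z) = φh a * G z := fun a z => by
    show ∑ k : Fin r, cst k * φh (val (fun m => if m = k then 1 else 0) (a • z)) =
      φh a * ∑ k : Fin r, cst k * φh (val (fun m => if m = k then 1 else 0) z)
    rw [Finset.mul_sum]
    refine Finset.sum_congr rfl fun k _ => ?_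
    rw [map_smul, smul_eq_mul, map_mul]
    ring
  let D' : B → Ch := fun a => G (res (Omega.sheaf f) hV (d a))
  have hloc_mem : ∀ m, ∀ b ∈ (D m).ideal T, toCh (w m b) + D' b ∈ Ideal.span {φh (t m)} := by
    intro m b hb
    by_cases h0 : t m = 1
    · rw [h0, map_one, Ideal.span_singleton_one]; exact Submodule.mem_top
    have h1 : G (OmegaSh.dSect f _ (t m)) = cst m := by
      show ∑ k : Fin r, cst k * φh (val (fun m => if m = k then 1 else 0) _) = _
      rw [Finset.sum_eq_single m (fun k _ hk => by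
        rw [(hval _ m).resolve_left h0, if_neg (Ne.symm hk), map_zero, mul_zero])
        (fun hm => absurd (Finset.mem_univ m) hm), (hval _ m).resolve_left h0, if_pos rfl, map_one, mul_one]
    obtain ⟨a, ha⟩ := Ideal.mem_span_singleton'.1 (hmap m ▸ Ideal.mem_map_of_mem (algebraMap B Γ(X, V)) hb)
    obtain ⟨⟨a₀, ⟨e₀, he₀⟩⟩, ha₀⟩ := IsLocalization.surj (Submonoid.powers h) (a * ((hs m).unit⁻¹ : Γ(X, V)ˣ))
    have h2 : algebraMap B Γ(X, V) (e₀ * b) = algebraMap B Γ(X, V) (a₀ * t' m) := by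
      rw [map_mul, map_mul, ← ha₀, ← ha]
      show resO X hV e₀ * (a * t m) = a * ((hs m).unit⁻¹ : Γ(X, V)ˣ) * resO X hV e₀ * resO X hV (t' m)
      rw [← hts m]
      calc resO X hV e₀ * (a * t m)
          = resO X hV e₀ * (a * t m) * (s m * ((hs m).unit⁻¹ : Γ(X, V)ˣ)) := by
            rw [IsUnit.mul_val_inv, mul_one]
        _ = _ := by ring
    obtain ⟨⟨e₁, he₁⟩, h3⟩ := (IsLocalization.eq_iff_exists (Submonoid.powers h) Γ(X, V)).1 h2
    let H := e₁ * e₀
    let A' := e₁ * a₀
    have hH : IsUnit (toCh (al H)) := by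
      rw [← hφh]
      exact (IsLocalization.map_units Γ(X, V) (⟨H, Submonoid.mul_mem _ he₁ he₀⟩ : Submonoid.powers h)).map φh
    have hHA : H * b = A' * t' m := by simp only [H, A', mul_assoc]; exact h3
    have hI : ∀ z ∈ (D m).ideal T, toCh (al z) ∈ Ideal.span {φh (t m)} := fun z hz =>
      hK m ▸ Ideal.mem_map_of_mem toCh (Ideal.mem_map_of_mem al hz)
    have hw : toCh (al H) * toCh (w m b) - toCh (al A') * toCh (w m (t' m)) ∈ Ideal.span {φh (t m)} := by
      have := sub_mem (hsmul m A' _ (ht' m)) (hsmul m H b hb)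
      rw [hHA] at this
      have h4 := hK m ▸ Ideal.mem_map_of_mem toCh this
      simp only [map_sub, map_mul] at h4 ⊢
      convert h4 using 1
      ring
    have hdt : D' (t' m) + toCh (w m (t' m)) ∈ Ideal.span {φh (t m)} := by
      show G (res (Omega.sheaf f) hV (OmegaSh.dSect f ⊤ (t' m))) + _ ∈ _
      rw [← dSect_resO, ← hts m, OmegaSh.dSect_mul, map_add, hG, hG, h1]
      refine Ideal.mem_span_singleton'.2 ⟨G (OmegaSh.dSect f V (s m)), ?_⟩
      have e1 : φh (s m) * cst m = -(toCh (w m (t' m))) := by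
        show _ * (-(toCh (w m (t' m))) * φh _) = _
        rw [mul_left_comm, ← map_mul, IsUnit.mul_val_inv, map_one, mul_one]
      rw [e1]
      ring
    have e : ∀ a c : B, D' (a * c) = toCh (al a) * D' c + toCh (al c) * D' a := by
      intro a c
      show G _ = _ * G _ + _ * G _
      rw [hd, res_add, res_smul, res_smul, map_add, hG, hG, hφh, hφh]
    have hd2 := congrArg D' hHA
    rw [e H b, e A' (t' m)] at hd2
    rw [← Ideal.unit_mul_mem_iff_mem (Ideal.span {φh (t m)}) hH]
    have := add_mem (add_mem hw (Ideal.mul_mem_left _ (toCh (al A')) hdt))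
      (sub_mem (Ideal.mul_mem_right (D' A') _ (hI _ (ht' m))) (Ideal.mul_mem_right (D' H) _ (hI b hb)))
    convert this using 1
    linear_combination hd2
  -- denominators
  haveI : (Omega.sheaf f).IsQuasicoherent := Omega57.isQuasicoherent_omega f
  haveI := finite_omega_top f
  haveI : Module.FinitePresentation B M := Module.finitePresentation_of_finite B M
  let g : M →ₗ[B] Ch :=
    { toFun := fun z => G (res (Omega.sheaf f) hV z)
      map_add' := fun a b => by rw [res_add, map_add]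
      map_smul' := fun a z => by
        rw [res_smul, hG, hφh, RingHom.id_apply, Algebra.smul_def, IsScalarTower.algebraMap_apply B C Ch] }
  obtain ⟨ψ, ⟨_, N, rfl⟩, hψ⟩ := Module.FinitePresentation.exists_lift_of_isLocalizedModule (Submonoid.powers h)
    (IsScalarTower.toAlgHom B C Ch).toLinearMap g
  have hψ' : ∀ z, toCh (ψ z) = toCh (al (h ^ N)) * G (res (Omega.sheaf f) hV z) := fun z => by
    have := congr($hψ z)
    simp only [LinearMap.comp_apply, LinearMap.smul_apply, Submonoid.smul_def, Algebra.smul_def,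
      AlgHom.toLinearMap_apply, IsScalarTower.coe_toAlgHom', IsScalarTower.algebraMap_apply B C Ch] at this
    exact this
  have hk : ∀ m, ∀ b ∈ (D m).ideal T, ∃ k, al h ^ k * (al (h ^ N) * w m b + ψ (d b)) ∈ ((D m).ideal T).map al := by
    intro m b hb
    have h1 : toCh (al (h ^ N) * w m b + ψ (d b)) ∈ (((D m).ideal T).map al).map toCh := by
      rw [hK, map_add, map_mul, hψ', ← mul_add]
      exact Ideal.mul_mem_left _ _ (hloc_mem m b hb)
    obtain ⟨_, ⟨k, rfl⟩, hk⟩ := (IsLocalization.algebraMap_mem_map_algebraMap_iff (Submonoid.powers (al h)) Ch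
      (((D m).ideal T).map al) _).1 h1
    exact ⟨k, hk⟩
  have hgens : ∀ m, ∃ F : Finset B, Submodule.span B (F : Set B) = (D m).ideal T := fun m =>
    (isNoetherian_def.1 inferInstance ((D m).ideal T))
  choose F hF using hgens
  choose k hk' using fun (m : Fin r) (b : ↥(F m)) => hk m b.1 (hF m ▸ Submodule.subset_span b.2)
  let K := ∑ m, ∑ b, k m b
  refine ⟨K + N, h ^ K • ψ, fun m b hb => ?_⟩
  have hle : (D m).ideal T ≤ congrSubSemi ((D m).ideal T) d hd (w m) (hadd m) (hsmul m) (h ^ (K + N)) (h ^ K • ψ) := by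
    conv_lhs => rw [← hF m]
    refine Submodule.span_le.2 fun b hb => ⟨hF m ▸ Submodule.subset_span hb, ?_⟩
    have hkK : k m ⟨b, hb⟩ ≤ K := (Finset.single_le_sum (fun b _ => Nat.zero_le (k m b)) (Finset.mem_univ _)).trans
      (Finset.single_le_sum (f := fun m => ∑ b, k m b) (fun m _ => Nat.zero_le _) (Finset.mem_univ m))
    obtain ⟨c, hc⟩ := Nat.exists_eq_add_of_le hkK
    convert Ideal.mul_mem_left _ (al h ^ c) (hk' m ⟨b, hb⟩) using 1
    rw [LinearMap.smul_apply, Algebra.smul_def, hc]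
    simp only [map_mul, map_pow, al]
    ring
  exact (hle hb).2

end Groth.Agent.NCDLift3
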