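import Groth.Agent.NCDLift3.UniqHom
import Groth.Agent.MP99.Ops

/-!
Lifts of an affine normal crossing pair are isomorphic.
-/

set_option autoImplicit false
set_option linter.style.haveILetI false
set_option backward.isDefEq.respectTransparency false
set_option backward.isDefEq.respectTransparency.types false
universe u

open CategoryTheory CategoryTheory.Limits AlgebraicGeometry Opposite TopologicalSpace

noncomputable section

namespace Groth.Agent.NCDLift3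

open Groth.Agent QC70

variable {p : ℕ} [Fact p.Prime] {Sl S X X₁ X₂ : Scheme.{u}}
  {gS : Sl ⟶ Spec (CommRingCat.of (ULift.{u} (ZMod (p ^ 2))))}
  {iS : S ⟶ Sl} {fS : S ⟶ Spec (CommRingCat.of (ULift.{u} (ZMod p)))}
  (hS : IsPullback iS fS gS (Spec.map (redHom p)))
  {f : X ⟶ S} {g₁ : X₁ ⟶ Sl} {g₂ : X₂ ⟶ Sl} {j₁ : X ⟶ X₁} {j₂ : X ⟶ X₂}
  (h₁ : IsPullback j₁ f g₁ iS) (h₂ : IsPullback j₂ f g₂ iS)

theorem comap_one' {X Y : Scheme.{u}} [IsAffine X] [IsAffine Y] (e : X ⟶ Y) :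
    (1 : Y.IdealSheafData).comap e = 1 :=
  Scheme.IdealSheafData.ext_of_isAffine (by
    rw [MP99.ideal_comap_top_of_isAffine]
    show (⊤ : Ideal _).map _ = ⊤
    exact Ideal.map_top _)

theorem comap_prod {X Y : Scheme.{u}} [IsAffine X] [IsAffine Y] (e : X ⟶ Y) {ι : Type*} (s : Finset ι)
    (D : ι → Y.IdealSheafData) : (∏ i ∈ s, D i).comap e = ∏ i ∈ s, (D i).comap e := by
  classical
  induction s using Finset.induction_on with
  | empty => rw [Finset.prod_empty, Finset.prod_empty, comap_one']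
  | insert a s ha ih => rw [Finset.prod_insert ha, Finset.prod_insert ha, MP99.comap_mul, ih]

set_option maxHeartbeats 1000000 in
include hS h₁ h₂ in
theorem exists_iso_of_lifts [IsAffine X] [Smooth f] [IsNoetherian S] [Flat gS] [Flat g₁] [Flat g₂] {r : ℕ}
    (D : Fin r → X.IdealSheafData) (hD : LogNCD.IsNCD D f)
    (D₁ : Fin r → X₁.IdealSheafData) (D₂ : Fin r → X₂.IdealSheafData)
    (hD₁ : ∀ m, (D₁ m).comap j₁ = D m) (hD₂ : ∀ m, (D₂ m).comap j₂ = D m)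
    (hD₁f : ∀ m, Flat ((D₁ m).subschemeι ≫ g₁)) (hD₂f : ∀ m, Flat ((D₂ m).subschemeι ≫ g₂)) :
    ∃ e : X₁ ≅ X₂, j₁ ≫ e.hom = j₂ ∧ e.hom ≫ g₂ = g₁ ∧ ∀ m, (D₂ m).comap e.hom = D₁ m := by
  classical
  haveI := isAffine_lift hS h₁
  haveI := isAffine_lift hS h₂
  haveI : QuasiSeparated f := .of_comp _ (terminal.from S)
  haveI : IsLocallyNoetherian X := LocallyOfFiniteType.isLocallyNoetherian f
  haveI : IsNoetherianRing Γ(X, ⊤) := IsLocallyNoetherian.component_noetherian ⟨⊤, isAffineOpen_top X⟩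
  have l₁ := isLift_top hS h₁
  have l₂ := isLift_top hS h₂
  obtain ⟨e₀, he₀, hg₀⟩ := exists_hom hS h₁ h₂
  let χ := e₀.appTop.hom
  have hχ : j₁.appTop.hom.comp χ = j₂.appTop.hom := by
    rw [← he₀, Scheme.Hom.comp_appTop]; rfl
  have hq : χ (p : Γ(X₂, ⊤)) = (p : Γ(X₁, ⊤)) := map_natCast _ p
  let T : X.affineOpens := ⟨⊤, isAffineOpen_top X⟩
  let J₁ := fun m => (D₁ m).ideal ⟨⊤, isAffineOpen_top X₁⟩
  let J₂ := fun m => (D₂ m).ideal ⟨⊤, isAffineOpen_top X₂⟩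
  let I := fun m => (D m).ideal T
  have hJ₁ : ∀ m, (J₁ m).map j₁.appTop.hom = I m := fun m => by
    show _ = (D m).ideal T
    rw [← hD₁ m, MP99.ideal_comap_top_of_isAffine]
  have hJ₂ : ∀ m, (J₂ m).map j₂.appTop.hom = I m := fun m => by
    show _ = (D m).ideal T
    rw [← hD₂ m, MP99.ideal_comap_top_of_isAffine]
  have hp₁ : ∀ m x, x ∈ J₁ m → j₁.appTop.hom x = 0 → ∃ y ∈ J₁ m, x = (p : Γ(X₁, ⊤)) * y := fun m x hx hx0 =>
    haveI := hD₁f m; exists_mem_mul_top hS h₁ (D₁ m) x hx hx0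
  have hp₂ : ∀ m x, x ∈ J₂ m → j₂.appTop.hom x = 0 → ∃ y ∈ J₂ m, x = (p : Γ(X₂, ⊤)) * y := fun m x hx hx0 =>
    haveI := hD₂f m; exists_mem_mul_top hS h₂ (D₂ m) x hx hx0
  let Disc := fun m => UniqAlg.IsDisc (q₁ := (p : Γ(X₁, ⊤))) (π₁ := j₁.appTop.hom) (π₂ := j₂.appTop.hom) χ (J₁ m) (J₂ m)
  let w : Fin r → Γ(X, ⊤) → Γ(X, ⊤) := fun m b => if h : b ∈ I m then
    (UniqAlg.exists_isDisc l₁ l₂ χ hχ (J₁ m) (J₂ m) (I m) (hJ₁ m) (hJ₂ m) h).choose else 0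
  have hw : ∀ m b, b ∈ I m → Disc m b (w m b) := fun m b hb => by
    show Disc m b (dite _ _ _)
    rw [dif_pos hb]
    exact (UniqAlg.exists_isDisc l₁ l₂ χ hχ (J₁ m) (J₂ m) (I m) (hJ₁ m) (hJ₂ m) hb).choose_spec
  have uniq : ∀ m {b c c' : Γ(X, ⊤)}, Disc m b c → Disc m b c' → c - c' ∈ I m := fun m {b c c'} h h' =>
    UniqAlg.isDisc_unique l₁ hχ hq (I m) (hJ₁ m) (hJ₂ m) (hp₁ m) (hp₂ m) h h'
  obtain ⟨ψ, hψ⟩ := exists_linear_congr f D hD w
    (fun m b hb b' hb' => by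
      rw [sub_sub]
      exact uniq m (hw m _ (add_mem hb hb')) ((hw m b hb).add (hw m b' hb')))
    (fun m a b hb => uniq m (hw m _ ((I m).mul_mem_left a hb)) ((hw m b hb).smul l₂ hχ a))
  let δ : Γ(X, ⊤) →+ Γ(X, ⊤) :=
    AddMonoidHom.mk' (fun b => ψ (OmegaSh.dSect f ⊤ b)) fun a b => by rw [OmegaSh.dSect_add, map_add]
  have hδ : ∀ a b, δ (a * b) = a * δ b + b * δ a := fun a b => by
    show ψ _ = a * ψ _ + b * ψ _
    rw [OmegaSh.dSect_mul, map_add, map_smul, map_smul, smul_eq_mul, smul_eq_mul]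
  let χ' := UniqAlg.perturb l₁ χ hχ δ hδ
  have hχ' : j₁.appTop.hom.comp χ' = j₂.appTop.hom := UniqAlg.comp_perturb l₁ χ hχ δ hδ
  have hq' : χ' (p : Γ(X₂, ⊤)) = (p : Γ(X₁, ⊤)) := map_natCast _ p
  let e := ofTop χ'
  have he_app : e.appTop = CommRingCat.ofHom χ' := ofTop_appTop χ'
  have he : j₁ ≫ e = j₂ := ext_of_isAffine (by
    rw [Scheme.Hom.comp_appTop, he_app]
    exact CommRingCat.hom_ext hχ')
  haveI : IsIso e := by
    haveI : IsIso (CommRingCat.ofHom χ') :=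
      (ConcreteCategory.isIso_iff_bijective _).2 (UniqAlg.bijective l₁ l₂ χ' hχ' hq')
    show IsIso (ofTop χ')
    unfold ofTop
    infer_instance
  refine ⟨asIso e, he, comp_eq_of_vectorField hS h₁ h₂ e₀ e he₀ he hg₀ ψ fun x => by rw [he_app]; rfl, fun m => ?_⟩
  refine Scheme.IdealSheafData.ext_of_isAffine ?_
  rw [MP99.ideal_comap_top_of_isAffine, asIso_hom, he_app]
  exact UniqAlg.map_eq l₁ l₂ hχ' hq' (I m) (hJ₁ m) (hJ₂ m) (hp₁ m) (hp₂ m) fun b hb =>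
    ⟨w m b + δ b, hψ m b hb, (hw m b hb).perturb l₁ hχ δ hδ⟩

end Groth.Agent.NCDLift3
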