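import Groth.Agent.NCDLift3.Main
import Groth.Agent.NCDLift3.NCDBaseChange
import Groth.Agent.NCDLift3.SemiAlg
import Groth.Agent.NCDLift3.SemiDeriv
import Groth.Agent.NCDLift3.SemiHom
import Groth.Agent.NCDLift3.UniqMain
import Groth.Agent.Var76.FrobHomeo

/-!
Lifts of the relative Frobenius compatible with lifts of a normal crossing divisor.
-/

set_option autoImplicit false
set_option linter.style.haveILetI false
set_option backward.isDefEq.respectTransparency false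
set_option backward.isDefEq.respectTransparency.types false
universe u

open CategoryTheory CategoryTheory.Limits AlgebraicGeometry Opposite TopologicalSpace

noncomputable section

namespace Groth.Agent.NCDLift3.Frob

open Groth.Agent QC70 Lift3.AdicLine

variable {p : ℕ} [Fact p.Prime]

theorem comap_pow {X Y : Scheme.{u}} [IsAffine X] [IsAffine Y] (e : X ⟶ Y) (I : Y.IdealSheafData) (n : ℕ) :
    (I ^ n).comap e = I.comap e ^ n := by
  induction n with
  | zero => rw [pow_zero, pow_zero, comap_one']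
  | succ k ih => rw [pow_succ, pow_succ, MP99.comap_mul, ih]

/-- The Frobenius pulls a component back to its `p`-th power. -/
theorem comap_frob {X S : Scheme.{u}} [FrobSch.IsCharP X p] {f : X ⟶ S} {r : ℕ} (D : Fin r → X.IdealSheafData)
    (hD : LogNCD.IsNCD D f) (m : Fin r) : (D m).comap (FrobSch.frob X p) = D m ^ p :=
  MP99.eq_of_local fun x => by
    obtain ⟨A, hA, -⟩ := MP99.exists_affine_le (W := ⊤) (f x) trivial
    obtain ⟨W, hxW, hW⟩ := exists_flat_equation f D hD m A x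
    obtain ⟨V, hxV, hV⟩ := MP99.exists_affine_le (W := W ⊓ f ⁻¹ᵁ A.1) x ⟨hxW, hA⟩
    obtain ⟨t, ht, -, -⟩ := hW V (hV.trans inf_le_left) (hV.trans inf_le_right)
    refine ⟨V, hxV, ?_⟩
    have e : V.1 ≤ FrobSch.frob X p ⁻¹ᵁ V.1 := le_rfl
    rw [MP99.ideal_comap _ (FrobSch.frob X p) V V e, Scheme.IdealSheafData.ideal_pow, Pi.pow_apply, ht,
      Ideal.map_span, Set.image_singleton, Ideal.span_singleton_pow]
    congr 2
    exact congr($((Scheme.Hom.app_eq_appLE (FrobSch.frob X p) (U := V.1)).symm) t)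

variable {Sl S X Xl : Scheme.{u}} {gS : Sl ⟶ Spec (CommRingCat.of (ULift.{u} (ZMod (p ^ 2))))}
  {iS : S ⟶ Sl} {fS : S ⟶ Spec (CommRingCat.of (ULift.{u} (ZMod p)))}
  (hS : IsPullback iS fS gS (Spec.map (redHom p)))
  {f : X ⟶ S} {g : Xl ⟶ Sl} {j : X ⟶ Xl} (hX : IsPullback j f g iS)

include hS hX in
/-- A power of a lifted component meets the kernel in the multiple of the power. -/
theorem exists_mul_pow_top [Flat gS] [Flat g] [IsAffine X] [IsAffine Xl] {r : ℕ} (D : Fin r → X.IdealSheafData)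
    (hD : LogNCD.IsNCD D f) (Dl : Fin r → Xl.IdealSheafData) (hDl : ∀ m, (Dl m).comap j = D m) (m : Fin r)
    [Flat ((Dl m).subschemeι ≫ g)] (n : ℕ) (x : Γ(Xl, ⊤)) (hx : x ∈ (Dl m ^ n).ideal ⟨⊤, isAffineOpen_top Xl⟩)
    (hx0 : j.appTop.hom x = 0) :
    ∃ y, j.appTop.hom y ∈ (D m ^ n).ideal ⟨⊤, isAffineOpen_top X⟩ ∧ x = (p : Γ(Xl, ⊤)) * y := by
  haveI := isClosedImmersion_base hS
  haveI : IsClosedImmersion j := MorphismProperty.of_isPullback hX.flip inferInstance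
  have hl := isLift_top hS hX
  obtain ⟨y, rfl⟩ := hl.exists_mul hx0
  refine ⟨y, ?_, rfl⟩
  have hcart : BlowUp.IsEffCartierIdeal (Dl m) :=
    (Curves2.isInvertible_idealMod_iff (Dl m)).1 ((main hS hX D hD Dl hDl m).1 inferInstance)
  let K := Scheme.IdealSheafData.ofIdealTop (Ideal.span {j.appTop.hom y})
  suffices hle : K ≤ D m ^ n by
    refine hle ⟨⊤, isAffineOpen_top X⟩ ?_
    rw [Scheme.IdealSheafData.ofIdealTop_ideal,
      show (homOfLE (le_top : (⊤ : X.Opens) ≤ ⊤)).op = 𝟙 _ from rfl, CategoryTheory.Functor.map_id, CommRingCat.hom_id,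
      Ideal.map_id]
    exact Ideal.mem_span_singleton_self _
  refine MP99.le_of_local fun z => ?_
  obtain ⟨U, hU, t, htz, ht⟩ := hcart (j z)
  let V : X.affineOpens := ⟨j ⁻¹ᵁ U.1, U.2.preimage j⟩
  refine ⟨V, hU, ?_⟩
  rw [Scheme.IdealSheafData.ofIdealTop_ideal, Ideal.map_span, Set.image_singleton, Ideal.span_singleton_le_iff_mem]
  have hV : (D m ^ n).ideal V = Ideal.span {(j.appLE U.1 V.1 le_rfl).hom t ^ n} := by
    rw [Scheme.IdealSheafData.ideal_pow, Pi.pow_apply, ← hDl m, MP99.ideal_comap _ j U V le_rfl, ht, Ideal.map_span,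
      Set.image_singleton, Ideal.span_singleton_pow]
  have hxU : (p : Γ(Xl, U.1)) * resO Xl le_top y ∈ Ideal.span {t ^ n} := by
    have h1 := Ideal.mem_map_of_mem (Xl.presheaf.map (homOfLE (le_top : U.1 ≤ ⊤)).op).hom hx
    have h3 : (Xl.presheaf.map (homOfLE (le_top : U.1 ≤ ⊤)).op).hom ((p : Γ(Xl, ⊤)) * y) ∈ (Dl m ^ n).ideal U :=
      le_of_eq ((Dl m ^ n).map_ideal (U := U) (V := ⟨⊤, isAffineOpen_top Xl⟩) (le_top : U.1 ≤ ⊤)) h1
    rw [Scheme.IdealSheafData.ideal_pow, Pi.pow_apply, ht, Ideal.span_singleton_pow, map_mul, map_natCast] at h3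
    exact h3
  obtain ⟨z', hz'⟩ := Ideal.mem_span_singleton'.1 hxU
  let q : Γ(Xl, U.1) := (p : Γ(Xl, U.1))
  have hq : q * q = 0 := by
    have h0 := congrArg (base (g ≫ gS) U.1) (sq_eq_zero.{u} p)
    rwa [map_mul, map_natCast, map_zero] at h0
  have hann : ∀ w : Γ(Xl, U.1), q * w = 0 → ∃ v, w = q * v := fun w hw => by
    obtain ⟨v, hv⟩ := exists_eq_mul (base (g ≫ gS) U.1) (flat_base (g ≫ gS) U) _ (zmod_ann p) w
      (by rwa [map_natCast])
    exact ⟨v, by rwa [map_natCast] at hv⟩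
  have hqz : q * z' = 0 := (mem_nonZeroDivisors_iff_right.1 (pow_mem htz n)) _ (by
    linear_combination q * hz' + (resO Xl (le_top : U.1 ≤ ⊤) y) * hq)
  obtain ⟨z'', rfl⟩ := hann _ hqz
  obtain ⟨v, hv⟩ := hann (resO Xl le_top y - z'' * t ^ n) (by linear_combination (-1 : Γ(Xl, U.1)) * hz')
  have hjq : j.appLE U.1 V.1 le_rfl q = 0 := by
    have hmem : q ∈ RingHom.ker (j.app U.1).hom := by
      rw [← Scheme.Hom.ker_apply, ker_lift hS hX]; exact Ideal.mem_span_singleton_self _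
    rw [RingHom.mem_ker, Scheme.Hom.app_eq_appLE] at hmem
    exact hmem
  have h2 := congrArg (j.appLE U.1 V.1 le_rfl).hom hv
  rw [map_sub, map_mul, map_mul, map_pow, hjq, zero_mul, sub_eq_zero] at h2
  rw [hV]
  refine Ideal.mem_span_singleton'.2 ⟨(j.appLE U.1 V.1 le_rfl).hom z'', h2.symm.trans ?_⟩
  have h1 := j.map_appLE (U := U.1) (V := V.1) le_rfl (homOfLE (le_top : U.1 ≤ ⊤)).op
  exact congr($h1 y)

variable [FrobSch.IsCharP S p] {Xl' : Scheme.{u}} {g' : Xl' ⟶ Sl} {j' : FrobSch.frobTwist f p ⟶ Xl'}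
  (hX' : IsPullback j' (pullback.snd f (FrobSch.frob S p)) g' iS)

set_option maxHeartbeats 1000000 in
include hS hX hX' in
theorem exists_frobLift [IsNoetherian S] [IsAffine X] [Smooth f] [Flat gS] [Flat g] [Flat g'] {r : ℕ}
    (D : Fin r → X.IdealSheafData) (hD : LogNCD.IsNCD D f)
    (Dl : Fin r → Xl.IdealSheafData) (hDl : ∀ m, (Dl m).comap j = D m) (hDlf : ∀ m, Flat ((Dl m).subschemeι ≫ g))
    (Dl' : Fin r → Xl'.IdealSheafData)
    (hDl' : ∀ m, (Dl' m).comap j' = (D m).comap (pullback.fst f (FrobSch.frob S p)))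
    (hDl'f : ∀ m, Flat ((Dl' m).subschemeι ≫ g')) :
    ∃ Fl : Xl ⟶ Xl', IsFinite Fl ∧ j ≫ Fl = FrobSch.relFrob f p ≫ j' ∧ Fl ≫ g' = g ∧
      (∏ m, Dl' m).comap Fl = (∏ m, Dl m) ^ p := by
  classical
  haveI : FrobSch.IsCharP X p := FrobSch.IsCharP.of_hom f p
  let X' := FrobSch.frobTwist f p
  let fst : X' ⟶ X := pullback.fst f (FrobSch.frob S p)
  let f' : X' ⟶ S := pullback.snd f (FrobSch.frob S p)
  let F : X ⟶ X' := FrobSch.relFrob f p
  have hF : F ≫ f' = f := FrobSch.relFrob_snd f p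
  haveI : IsAffineHom (FrobSch.frob S p) := ⟨fun U hU => hU⟩
  haveI : IsAffineHom fst := inferInstanceAs (IsAffineHom (pullback.fst f (FrobSch.frob S p)))
  haveI : IsAffine X' := isAffine_of_isAffineHom fst
  haveI : Smooth f' := inferInstanceAs (Smooth (pullback.snd f (FrobSch.frob S p)))
  haveI := isAffine_lift hS hX
  haveI := isAffine_lift hS hX'
  haveI : QuasiSeparated f' := .of_comp _ (terminal.from S)
  haveI : IsLocallyNoetherian X' := LocallyOfFiniteType.isLocallyNoetherian f'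
  haveI : IsNoetherianRing Γ(X', ⊤) := IsLocallyNoetherian.component_noetherian ⟨⊤, isAffineOpen_top X'⟩
  have hD' : LogNCD.IsNCD (fun m => (D m).comap fst) f' := isNCD_comap (IsPullback.of_hasPullback _ _) D hD
  let φ : Γ(X', ⊤) →+* Γ(X, ⊤) := F.appTop.hom
  letI : Algebra Γ(X', ⊤) Γ(X, ⊤) := φ.toAlgebra
  have l₁ := isLift_top hS hX
  have l₂ := isLift_top hS hX'
  obtain ⟨e₀, he₀, hg₀⟩ := Semi.exists_hom hS hF hX hX'
  let χ := e₀.appTop.hom
  have hχ : j.appTop.hom.comp χ = φ.comp j'.appTop.hom := by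
    have := congrArg Scheme.Hom.appTop he₀
    rw [Scheme.Hom.comp_appTop, Scheme.Hom.comp_appTop] at this
    exact congrArg CommRingCat.Hom.hom this
  have hq : χ (p : Γ(Xl', ⊤)) = (p : Γ(Xl, ⊤)) := map_natCast _ p
  let J₁ := fun m => (Dl m ^ p).ideal ⟨⊤, isAffineOpen_top Xl⟩
  let J₂ := fun m => (Dl' m).ideal ⟨⊤, isAffineOpen_top Xl'⟩
  let I := fun m => ((D m).comap fst).ideal ⟨⊤, isAffineOpen_top X'⟩
  have hI : ∀ m, (I m).map φ = (D m ^ p).ideal ⟨⊤, isAffineOpen_top X⟩ := fun m => by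
    show (((D m).comap fst).ideal ⟨⊤, isAffineOpen_top X'⟩).map F.appTop.hom = _
    rw [← MP99.ideal_comap_top_of_isAffine, ← Scheme.IdealSheafData.comap_comp,
      show F ≫ fst = FrobSch.frob X p from FrobSch.relFrob_fst f p, comap_frob D hD m]
  have hJ₁ : ∀ m, (J₁ m).map j.appTop.hom = (I m).map φ := fun m => by
    rw [hI]
    rw [← hDl m, ← comap_pow, MP99.ideal_comap_top_of_isAffine]
  have hJ₂ : ∀ m, (J₂ m).map j'.appTop.hom = I m := fun m => by
    show (J₂ m).map j'.appTop.hom = ((D m).comap fst).ideal ⟨⊤, isAffineOpen_top X'⟩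
    rw [← hDl' m, MP99.ideal_comap_top_of_isAffine]
  have hp₁ : ∀ m x, x ∈ J₁ m → j.appTop.hom x = 0 →
      ∃ y, j.appTop.hom y ∈ (I m).map φ ∧ x = (p : Γ(Xl, ⊤)) * y := fun m x hx hx0 => by
    haveI := hDlf m
    rw [hI]
    exact exists_mul_pow_top hS hX D hD Dl hDl m p x hx hx0
  have hp₂ : ∀ m x, x ∈ J₂ m → j'.appTop.hom x = 0 → ∃ y ∈ J₂ m, x = (p : Γ(Xl', ⊤)) * y := fun m x hx hx0 =>
    haveI := hDl'f m; exists_mem_mul_top hS hX' (Dl' m) x hx hx0
  let Disc := fun m => SemiAlg.IsDisc (q₁ := (p : Γ(Xl, ⊤))) (π₁ := j.appTop.hom) (π₂ := j'.appTop.hom) χ (J₁ m)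
    (J₂ m) φ
  let w : Fin r → Γ(X', ⊤) → Γ(X, ⊤) := fun m b => if h : b ∈ I m then
    (SemiAlg.exists_isDisc l₁ l₂ χ hχ (J₁ m) (J₂ m) (I m) (hJ₁ m) (hJ₂ m) h).choose else 0
  have hw : ∀ m b, b ∈ I m → Disc m b (w m b) := fun m b hb => by
    show Disc m b (dite _ _ _)
    rw [dif_pos hb]
    exact (SemiAlg.exists_isDisc l₁ l₂ χ hχ (J₁ m) (J₂ m) (I m) (hJ₁ m) (hJ₂ m) hb).choose_spec
  have uniq : ∀ m {b : Γ(X', ⊤)} {c c' : Γ(X, ⊤)}, Disc m b c → Disc m b c' → c - c' ∈ (I m).map φ :=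
    fun m {b c c'} h h' => SemiAlg.isDisc_unique l₁ hχ hq (I m) (hJ₂ m) (hp₁ m) (hp₂ m) h h'
  obtain ⟨ψ, hψ⟩ := exists_linear_congr_semi f' (fun m => (D m).comap fst) hD' Γ(X, ⊤) w
    (fun m b hb b' hb' => by
      rw [sub_sub]
      exact uniq m (hw m _ (add_mem hb hb')) ((hw m b hb).add (hw m b' hb')))
    (fun m a b hb => uniq m (hw m _ ((I m).mul_mem_left a hb)) ((hw m b hb).smul l₂ hχ a))
  have hψs : ∀ a z, ψ (a • z) = F.appTop.hom a * ψ z := fun a z => by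
    rw [map_smul, Algebra.smul_def]; rfl
  let δ : Γ(X', ⊤) →+ Γ(X, ⊤) :=
    AddMonoidHom.mk' (fun b => ψ (OmegaSh.dSect f' ⊤ b)) fun a b => by rw [OmegaSh.dSect_add, map_add]
  have hδ : ∀ a b, δ (a * b) = φ a * δ b + φ b * δ a := fun a b => by
    show ψ _ = φ a * ψ _ + φ b * ψ _
    rw [OmegaSh.dSect_mul, map_add, hψs, hψs]
  let χ' := SemiAlg.perturb l₁ χ hχ δ hδ
  have hχ' : j.appTop.hom.comp χ' = φ.comp j'.appTop.hom := SemiAlg.comp_perturb l₁ χ hχ δ hδ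
  have hq' : χ' (p : Γ(Xl', ⊤)) = (p : Γ(Xl, ⊤)) := map_natCast _ p
  let e := ofTop χ'
  have he_app : e.appTop = CommRingCat.ofHom χ' := ofTop_appTop χ'
  have he : j ≫ e = F ≫ j' := ext_of_isAffine (by
    rw [Scheme.Hom.comp_appTop, Scheme.Hom.comp_appTop, he_app]
    exact CommRingCat.hom_ext hχ')
  have hfin : φ.Finite := by
    haveI : IsFinite F := Var76.FrobHomeo.relFrob_isFinite p f
    exact ((HasAffineProperty.iff_of_isAffine (P := @IsFinite)).1 ‹IsFinite F›).2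
  refine ⟨e, ?_, he, Semi.comp_eq_of_vectorField hS hF hX hX' e₀ e he₀ he hg₀ ψ.toAddMonoidHom hψs
    (fun x => by rw [he_app]; rfl), ?_⟩
  · refine (HasAffineProperty.iff_of_isAffine (P := @IsFinite)).2 ⟨inferInstance, ?_⟩
    rw [he_app]
    exact SemiAlg.finite_of_finite l₁ l₂ χ' hχ' hq' hfin
  rw [comap_prod e Finset.univ Dl', ← Finset.prod_pow]
  refine Finset.prod_congr rfl fun m _ => ?_
  refine Scheme.IdealSheafData.ext_of_isAffine ?_
  rw [MP99.ideal_comap_top_of_isAffine, he_app]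
  exact SemiAlg.map_eq l₁ l₂ hχ' hq' (I m) (hJ₁ m) (hJ₂ m) (hp₁ m) (hp₂ m) fun b hb =>
    ⟨w m b + δ b, hψ m b hb, (hw m b hb).perturb l₁ hχ δ hδ⟩

end Groth.Agent.NCDLift3.Frob
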