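import Groth.Agent.NCDLift3.Main
import Groth.Agent.Ind91.Lift
import Groth.Agent.Smooth28.Lift

/-!
Local lifts of a relative normal crossing pair along a square-zero thickening of the base.
-/

set_option autoImplicit false
set_option backward.isDefEq.respectTransparency false
set_option backward.isDefEq.respectTransparency.types false
universe u

open CategoryTheory CategoryTheory.Limits AlgebraicGeometry Opposite TopologicalSpace MvPolynomial

noncomputable section

namespace Groth.Agent.NCDLift3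

variable {X S : Scheme.{u}}

set_option maxHeartbeats 1000000 in
/-- An étale chart is étale on the rings of affine opens. -/
theorem exists_etale_coord (f : X ⟶ S) {W : X.Opens} {n : ℕ} (v : ULift.{u} (Fin n) → Γ(W, ⊤))
    (het : Etale (AffineSpace.homOfVector (W.ι ≫ f) v)) (A : S.affineOpens) {V : X.Opens} (hV : IsAffineOpen V)
    (hVW : V ≤ W) (hVA : V ≤ f ⁻¹ᵁ A.1) :
    ∃ φ : MvPolynomial (ULift.{u} (Fin n)) Γ(S, A.1) →+* Γ(X, V), φ.Etale ∧
      (∀ a, φ (MvPolynomial.X a) = LogNCD.sectOn W hVW (v a)) ∧ φ.comp MvPolynomial.C = (f.appLE A.1 V hVA).hom := by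
  let C := Γ(X, V)
  let w : ULift.{u} (Fin n) → Γ(Spec C, ⊤) := fun a => (Scheme.ΓSpecIso C).inv (LogNCD.sectOn W hVW (v a))
  let f₀ : Spec C ⟶ Spec Γ(S, A.1) := Spec.map (f.appLE A.1 V hVA)
  let j : Spec C ⟶ W := IsOpenImmersion.lift W.ι hV.fromSpec (by
    rw [Scheme.Opens.range_ι, hV.range_fromSpec]; exact hVW)
  have hjι : j ≫ W.ι = hV.fromSpec := IsOpenImmersion.lift_fac _ _ _
  haveI : IsOpenImmersion j :=
    haveI : IsOpenImmersion (j ≫ W.ι) := hjι ▸ inferInstance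
    IsOpenImmersion.of_comp j W.ι
  have hw : ∀ a, w a = j.appTop (v a) := by
    intro a
    have h1 : hV.fromSpec.appLE W ⊤ (hV.fromSpec_preimage_self.ge.trans (hV.fromSpec.preimage_mono hVW)) =
        X.presheaf.map (homOfLE hVW).op ≫ hV.fromSpec.appLE V ⊤ (hV.fromSpec_preimage_self.ge) :=
      (Scheme.Hom.map_appLE _ _ _).symm
    have h2 : hV.fromSpec.appLE V ⊤ (hV.fromSpec_preimage_self.ge) = (Scheme.ΓSpecIso C).inv := by
      rw [Scheme.Hom.appLE, IsAffineOpen.fromSpec_app_self, Category.assoc, ← Functor.map_comp]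
      exact (congrArg ((Scheme.ΓSpecIso C).inv ≫ ·) (((Spec C).presheaf.congr_map (Subsingleton.elim _ (𝟙 _))).trans
        (CategoryTheory.Functor.map_id _ _))).trans (Category.comp_id _)
    have h3 : (W.ι.appLE W ⊤ W.ι_preimage_self.ge) ≫ j.appTop = hV.fromSpec.appLE W ⊤ (hV.fromSpec_preimage_self.ge.trans (hV.fromSpec.preimage_mono hVW)) := by
      have := Scheme.Hom.appLE_comp_appLE j W.ι W ⊤ ⊤ W.ι_preimage_self.ge le_top
      rw [show j.appTop = j.appLE ⊤ ⊤ le_top from (Scheme.Hom.app_eq_appLE j).trans rfl]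
      refine this.trans ?_
      simp only [hjι]
    have h4 : W.topIso.hom ≫ W.ι.appLE W ⊤ W.ι_preimage_self.ge = 𝟙 _ := by
      rw [Scheme.Opens.ι_appLE, Scheme.Opens.topIso_hom, ← Functor.map_comp]
      exact (X.presheaf.congr_map (Subsingleton.elim _ (𝟙 _))).trans (CategoryTheory.Functor.map_id _ _)
    show (Scheme.ΓSpecIso C).inv (X.presheaf.map (homOfLE hVW).op (W.topIso.hom (v a))) = _
    rw [← h2, ← ConcreteCategory.comp_apply, ← h1, ← h3, ← ConcreteCategory.comp_apply, ← Category.assoc, h4,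
      Category.id_comp]
  have hf₀ : f₀ ≫ A.2.fromSpec = (j ≫ W.ι) ≫ f := by
    rw [hjι]; exact IsAffineOpen.SpecMap_appLE_fromSpec f A.2 hV hVA
  have hc : AffineSpace.homOfVector f₀ w ≫ AffineSpace.map (ULift.{u} (Fin n)) A.2.fromSpec =
      j ≫ AffineSpace.homOfVector (W.ι ≫ f) v := by
    apply AffineSpace.hom_ext
    · rw [Category.assoc, AffineSpace.map_over, ← Category.assoc, AffineSpace.homOfVector_over, hf₀,
        Category.assoc, Category.assoc, AffineSpace.homOfVector_over]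
    · intro a
      rw [Scheme.Hom.comp_appTop, CommRingCat.comp_apply, AffineSpace.map_appTop_coord,
        AffineSpace.homOfVector_appTop_coord, Scheme.Hom.comp_appTop, CommRingCat.comp_apply,
        AffineSpace.homOfVector_appTop_coord, hw]
  haveI : IsOpenImmersion (AffineSpace.map (ULift.{u} (Fin n)) A.2.fromSpec) :=
    MorphismProperty.of_isPullback (AffineSpace.isPullback_map A.2.fromSpec).flip inferInstance
  have het' : Etale (AffineSpace.homOfVector f₀ w) := by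
    haveI : Etale (AffineSpace.homOfVector f₀ w ≫ AffineSpace.map (ULift.{u} (Fin n)) A.2.fromSpec) := by
      rw [hc]; infer_instance
    exact MorphismProperty.of_postcomp (W := @Etale) (W' := @Etale) _
      (AffineSpace.map (ULift.{u} (Fin n)) A.2.fromSpec) inferInstance inferInstance
  haveI : MorphismProperty.RespectsIso @Etale.{u} := MorphismProperty.IsStableUnderBaseChange.respectsIso
  have hφ : (AffNorm62.coordHom f₀ w).Etale :=
    (HasRingHomProperty.Spec_iff (P := @Etale)).mp ((AffNorm62.property_homOfVector_iff @Etale _ _).mp het')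
  let ε : Γ(Spec C, ⊤) →+* C := (Scheme.ΓSpecIso C).hom.hom
  refine ⟨ε.comp (AffNorm62.coordHom f₀ w), RingHom.Etale.stableUnderComposition _ _ hφ (RingHom.Etale.of_bijective
    (f := ε) (ConcreteCategory.bijective_of_isIso (Scheme.ΓSpecIso C).hom)), fun a => ?_, ?_⟩
  · show (Scheme.ΓSpecIso C).hom (eval₂Hom _ w (MvPolynomial.X _)) = _
    rw [eval₂Hom_X']
    exact Iso.inv_hom_id_apply (Scheme.ΓSpecIso C) _
  · refine RingHom.ext fun a => ?_
    show (Scheme.ΓSpecIso C).hom (eval₂Hom _ w (MvPolynomial.C a)) = _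
    rw [eval₂Hom_C]
    have e1 : (Scheme.ΓSpecIso Γ(S, A.1)).inv ≫ f₀.appTop ≫ (Scheme.ΓSpecIso C).hom = f.appLE A.1 V hVA := by
      rw [Scheme.ΓSpecIso_naturality, Iso.inv_hom_id_assoc]
    exact congr($e1 a)

/-- A surjection onto a quotient by the extended kernel is a pushout. -/
theorem isPushout_of_surjective {R R' A A' : CommRingCat.{u}} (a : R ⟶ R') (b : R ⟶ A) (c : A ⟶ A') (d : R' ⟶ A')
    (w : a ≫ d = b ≫ c) (ha : Function.Surjective a) (hc : Function.Surjective c)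
    (hker : RingHom.ker c.hom = (RingHom.ker a.hom).map b.hom) : IsPushout a b d c := by
  refine ⟨⟨w⟩, ⟨PushoutCocone.IsColimit.mk _ (fun s => CommRingCat.ofHom
    (c.hom.liftOfRightInverse _ (Function.rightInverse_surjInv hc) ⟨s.inr.hom, ?_⟩)) ?_ ?_ ?_⟩⟩
  · rw [hker, Ideal.map_le_iff_le_comap]
    intro x hx
    show s.inr.hom (b.hom x) = 0
    have := congr($(s.condition).hom x)
    simp only [CommRingCat.hom_comp, RingHom.comp_apply] at this
    rw [← this, RingHom.mem_ker.1 hx, map_zero]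
  · intro s
    ext x
    obtain ⟨y, rfl⟩ := ha x
    have h1 := congr($(w).hom y)
    have h2 := congr($(s.condition).hom y)
    simp only [CommRingCat.hom_comp, RingHom.comp_apply] at h1 h2
    rw [CommRingCat.hom_comp, RingHom.comp_apply, h1, CommRingCat.hom_ofHom, RingHom.liftOfRightInverse_comp_apply c.hom _ (Function.rightInverse_surjInv hc)]
    exact h2.symm
  · intro s
    ext x
    exact RingHom.liftOfRightInverse_comp_apply c.hom _ (Function.rightInverse_surjInv hc) _ x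
  · intro s m _ hm
    ext x
    obtain ⟨y, rfl⟩ := hc x
    rw [CommRingCat.hom_ofHom, RingHom.liftOfRightInverse_comp_apply c.hom _ (Function.rightInverse_surjInv hc)]
    exact congr($(hm).hom y)

/-- Lifts of the coordinate ring of an étale chart, with lifts of the coordinates. -/
theorem exists_etale_chart_lift {R R₀ C : Type u} [CommRing R] [CommRing R₀] [CommRing C] {σ : Type u}
    (a : R →+* R₀) (ha : Function.Surjective a) (φ : MvPolynomial σ R₀ →+* C) (hφ : φ.Etale) :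
    ∃ (C' : Type u) (_ : CommRing C') (ψ : R →+* C') (π : C' →+* C), ψ.Flat ∧ Function.Surjective π ∧
      π.comp ψ = (φ.comp MvPolynomial.C).comp a ∧ RingHom.ker π = (RingHom.ker a).map ψ ∧
      ∀ i : σ, ∃ t : C', π t = φ (MvPolynomial.X i) ∧ ((Ideal.Quotient.mk (Ideal.span {t})).comp ψ).Flat := by
  let red : MvPolynomial σ R →+* MvPolynomial σ R₀ := MvPolynomial.map a
  have hred : Function.Surjective red := MvPolynomial.map_surjective _ ha
  let I := RingHom.ker red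
  let e : MvPolynomial σ R ⧸ I ≃+* MvPolynomial σ R₀ := RingHom.quotientKerEquivOfSurjective hred
  let φ₁ : MvPolynomial σ R ⧸ I →+* C := φ.comp e.toRingHom
  have hφ₁ : φ₁.Etale := RingHom.Etale.stableUnderComposition _ _ (RingHom.Etale.of_bijective (f := e.toRingHom) e.bijective) hφ
  letI : Algebra (MvPolynomial σ R ⧸ I) C := φ₁.toAlgebra
  haveI : Algebra.Etale (MvPolynomial σ R ⧸ I) C := RingHom.etale_algebraMap.1 hφ₁
  letI : Algebra (MvPolynomial σ R) C := (φ₁.comp (Ideal.Quotient.mk I)).toAlgebra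
  haveI : IsScalarTower (MvPolynomial σ R) (MvPolynomial σ R ⧸ I) C :=
    ⟨fun a b z => by
      obtain ⟨b, rfl⟩ := Ideal.Quotient.mk_surjective b
      show φ₁ (Ideal.Quotient.mk I (a * b)) * z = φ₁ (Ideal.Quotient.mk I a) * (φ₁ (Ideal.Quotient.mk I b) * z)
      rw [map_mul, map_mul, mul_assoc]⟩
  have hbar : ∀ x, φ₁ (Ideal.Quotient.mk I x) = φ (red x) := fun x => rfl
  obtain ⟨C', iR, iA, π, hC', hπ, hker⟩ := Ind91.exists_etale_lift (MvPolynomial σ R) I C
  let al := algebraMap (MvPolynomial σ R) C'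
  have hflat : al.Flat := RingHom.flat_algebraMap_iff.2 inferInstance
  have hπal : ∀ x, π (al x) = φ (red x) := fun x => (π.commutes x).trans (hbar x)
  refine ⟨C', iR, al.comp MvPolynomial.C, π.toRingHom, ?_, hπ, RingHom.ext fun x => ?_, ?_, fun i =>
    ⟨al (MvPolynomial.X i), ?_, (regular_and_flat_quotient al hflat i).2⟩⟩
  · exact (RingHom.flat_algebraMap_iff.2 inferInstance : (algebraMap R (MvPolynomial σ R)).Flat).comp hflat
  · show π (al (MvPolynomial.C x)) = φ (MvPolynomial.C (a x))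
    rw [hπal]
    exact congrArg φ (MvPolynomial.map_C a x)
  · show RingHom.ker π = _
    rw [hker, ← Ideal.map_map, ← MvPolynomial.ker_map]
  · show π (al (MvPolynomial.X i)) = _
    rw [hπal]
    exact congrArg φ (MvPolynomial.map_X a i)

/-- Spec of a flat quotient is flat. -/
theorem flat_subschemeι_ofIdealTop {R C : CommRingCat.{u}} (ψ : R ⟶ C) (t : C)
    (h : ((Ideal.Quotient.mk (Ideal.span {t})).comp ψ.hom).Flat) :
    Flat ((Scheme.IdealSheafData.ofIdealTop (Ideal.span {(Scheme.ΓSpecIso C).inv t})).subschemeι ≫ Spec.map ψ) := by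
  let J := Scheme.IdealSheafData.ofIdealTop (Ideal.span {(Scheme.ΓSpecIso C).inv t})
  let T : (Spec C).affineOpens := ⟨⊤, isAffineOpen_top _⟩
  have hJ : J.ideal T = Ideal.span {(Scheme.ΓSpecIso C).inv t} := by
    rw [Scheme.IdealSheafData.ofIdealTop_ideal]
    exact (congrArg (Ideal.map · _) (congrArg CommRingCat.Hom.hom ((Spec C).presheaf.map_id _))).trans
      (Ideal.map_id _)
  haveI : IsAffine J.subscheme := isAffine_of_isAffineHom J.subschemeι
  rw [HasRingHomProperty.iff_of_isAffine (P := @Flat), Scheme.Hom.comp_appTop]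
  let eC : C ≃+* Γ(Spec C, ⊤) := (Scheme.ΓSpecIso C).symm.commRingCatIsoToRingEquiv
  let q : C ⧸ Ideal.span {t} ≃+* Γ(Spec C, ⊤) ⧸ J.ideal T :=
    Ideal.quotientEquiv _ _ eC (by rw [hJ, Ideal.map_span, Set.image_singleton]; rfl)
  let m : R →+* Γ(Spec C, ⊤) ⧸ J.ideal T := q.toRingHom.comp ((Ideal.Quotient.mk _).comp ψ.hom)
  have hm : m.Flat := h.comp (RingHom.Flat.of_bijective q.bijective)
  have key : (Spec.map ψ).appTop ≫ J.subschemeι.appTop =
      (Scheme.ΓSpecIso R).hom ≫ CommRingCat.ofHom m ≫ (J.subschemeObjIso T).inv := by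
    rw [show J.subschemeι.appTop = CommRingCat.ofHom (Ideal.Quotient.mk _) ≫ (J.subschemeObjIso T).inv from
      J.subschemeι_app T, ← cancel_epi (Scheme.ΓSpecIso R).inv, Iso.inv_hom_id_assoc,
      ← Scheme.ΓSpecIso_inv_naturality_assoc, ← Category.assoc, ← Category.assoc]
    congr 1
  rw [key]
  exact ((RingHom.Flat.of_bijective (ConcreteCategory.bijective_of_isIso (Scheme.ΓSpecIso R).hom)).comp hm).comp
    (RingHom.Flat.of_bijective (ConcreteCategory.bijective_of_isIso (J.subschemeObjIso T).inv))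

/-- The spectrum of a lifted coordinate ring is a lift of the pair over an affine base. -/
theorem exists_lift_of_ring {Sl : Scheme.{u}} {iS : S ⟶ Sl} [IsClosedImmersion iS] {f : X ⟶ S} {r : ℕ}
    (D : Fin r → X.IdealSheafData) (A : Sl.affineOpens) {V : X.Opens} (hV : IsAffineOpen V)
    (e : V ≤ f ⁻¹ᵁ (iS ⁻¹ᵁ A.1)) {C' : Type u} [CommRing C'] (ψ : Γ(Sl, A.1) →+* C') (π : C' →+* Γ(X, V))
    (hψ : ψ.Flat) (hπ : Function.Surjective π)
    (hcomm : π.comp ψ = (f.appLE (iS ⁻¹ᵁ A.1) V e).hom.comp (iS.app A.1).hom)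
    (hker : RingHom.ker π = (RingHom.ker (iS.app A.1).hom).map ψ)
    (t : Fin r → C') (ht : ∀ m, (D m).ideal ⟨V, hV⟩ = Ideal.span {π (t m)})
    (htf : ∀ m, ((Ideal.Quotient.mk (Ideal.span {t m})).comp ψ).Flat) :
    ∃ (Ul : Scheme.{u}) (g : Ul ⟶ Sl) (j : (V : Scheme.{u}) ⟶ Ul),
      Flat g ∧ IsPullback j (V.ι ≫ f) g iS ∧
        ∃ Dl : Fin r → Ul.IdealSheafData, ∀ m, (Dl m).comap j = (D m).comap V.ι ∧
          Flat ((Dl m).subschemeι ≫ g) := by
  let C : CommRingCat.{u} := CommRingCat.of C'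
  let ψ' : Γ(Sl, A.1) ⟶ C := CommRingCat.ofHom ψ
  let π' : C ⟶ Γ(X, V) := CommRingCat.ofHom π
  haveI hfl : Flat (Spec.map ψ') := (HasRingHomProperty.Spec_iff (P := @Flat)).2 hψ
  refine ⟨Spec C, Spec.map ψ' ≫ A.2.fromSpec, hV.isoSpec.hom ≫ Spec.map π', inferInstance, ?_,
    fun m => .ofIdealTop (Ideal.span {(Scheme.ΓSpecIso C).inv (t m)}), fun m => ⟨?_, ?_⟩⟩
  · have hA' : IsAffineOpen (iS ⁻¹ᵁ A.1) := A.2.preimage iS
    have h1 : IsPullback (Spec.map (iS.app A.1)) hA'.fromSpec A.2.fromSpec iS := by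
      refine IsOpenImmersion.isPullback _ _ _ _ ?_ ?_
      · rw [Scheme.Hom.app_eq_appLE]
        exact (IsAffineOpen.SpecMap_appLE_fromSpec iS A.2 hA' le_rfl).symm
      · rw [A.2.opensRange_fromSpec, hA'.opensRange_fromSpec]
    have h2 : IsPullback (Spec.map π') (Spec.map (f.appLE (iS ⁻¹ᵁ A.1) V e)) (Spec.map ψ')
        (Spec.map (iS.app A.1)) :=
      (isPullback_SpecMap_of_isPushout _ _ _ _ (isPushout_of_surjective (iS.app A.1) ψ' π' _
        (CommRingCat.hom_ext hcomm.symm) (iS.app_surjective A.1 A.2) hπ hker)).flip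
    have h3 := h2.paste_vert h1
    have h4 : IsPullback hV.isoSpec.hom (V.ι ≫ f)
        (Spec.map (f.appLE (iS ⁻¹ᵁ A.1) V e) ≫ hA'.fromSpec) (𝟙 S) := by
      refine IsPullback.of_horiz_isIso ⟨?_⟩
      rw [Category.comp_id, IsAffineOpen.SpecMap_appLE_fromSpec f hA' hV e, IsAffineOpen.isoSpec_hom,
        IsAffineOpen.toSpecΓ_fromSpec_assoc]
    simpa using h4.paste_horiz h3
  · haveI : IsAffine (V : Scheme.{u}) := hV
    refine Scheme.IdealSheafData.ext_of_isAffine ?_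
    rw [MP99.ideal_comap_top_of_isAffine, MP99.ideal_comap (D m) V.ι ⟨V, hV⟩ ⟨⊤, isAffineOpen_top _⟩
      V.ι_preimage_self.ge, ht, Scheme.IdealSheafData.ofIdealTop_ideal, Ideal.map_map, Ideal.map_span, Ideal.map_span,
      Set.image_singleton, Set.image_singleton]
    congr 2
    have h1 : (Scheme.ΓSpecIso C).inv ≫ (hV.isoSpec.hom ≫ Spec.map π').appTop =
        π' ≫ V.ι.appLE V ⊤ V.ι_preimage_self.ge := by
      rw [Scheme.Hom.comp_appTop, ← Scheme.ΓSpecIso_inv_naturality_assoc, IsAffineOpen.isoSpec_hom,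
        Scheme.Opens.toSpecΓ_appTop, Iso.inv_hom_id_assoc]
      rw [Scheme.Opens.ι_appLE, Scheme.Opens.topIso_inv]
      exact congrArg (π' ≫ ·) (X.presheaf.congr_map (Subsingleton.elim _ _))
    refine Eq.trans ?_ congr($h1 (t m))
    show _ = (hV.isoSpec.hom ≫ Spec.map π').appTop ((Scheme.ΓSpecIso C).inv (t m))
    simp
  · haveI := flat_subschemeι_ofIdealTop ψ' (t m) (htf m)
    rw [← Category.assoc]
    infer_instance

/-- Local existence of lifts of a relative normal crossing pair. -/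
theorem exists_local_lift_pair {Sl : Scheme.{u}} (iS : S ⟶ Sl) [IsClosedImmersion iS] (f : X ⟶ S) [Smooth f]
    {r : ℕ} (D : Fin r → X.IdealSheafData) (hD : LogNCD.IsNCD D f) (x : X) :
    ∃ U : X.Opens, x ∈ U ∧ ∃ (Ul : Scheme.{u}) (g : Ul ⟶ Sl) (j : (U : Scheme.{u}) ⟶ Ul),
      Flat g ∧ IsPullback j (U.ι ≫ f) g iS ∧
        ∃ Dl : Fin r → Ul.IdealSheafData, ∀ m, (Dl m).comap j = (D m).comap U.ι ∧
          Flat ((Dl m).subschemeι ≫ g) := by
  classical
  obtain ⟨_, ⟨A, hA, rfl⟩, hxA, -⟩ := Sl.isBasis_affineOpens.exists_subset_of_mem_open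
    (show iS (f x) ∈ (⊤ : Sl.Opens) from trivial) (⊤ : Sl.Opens).isOpen
  have hA' : IsAffineOpen (iS ⁻¹ᵁ A) := hA.preimage iS
  have hone : ∀ (C' : Type u) [CommRing C'] (ψ : Γ(Sl, A) →+* C'),
      ((Ideal.Quotient.mk (Ideal.span ({1} : Set C'))).comp ψ).Flat := by
    intro C' _ ψ
    haveI : Subsingleton (C' ⧸ Ideal.span ({1} : Set C')) :=
      Ideal.Quotient.subsingleton_iff.2 Ideal.span_singleton_one
    algebraize [(Ideal.Quotient.mk (Ideal.span ({1} : Set C'))).comp ψ]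
    exact RingHom.flat_algebraMap_iff.2 inferInstance
  by_cases hthr : Nonempty (LogNCD.Through D x)
  · obtain ⟨W, hxW, n, v, idx, -, het, hideal, hout⟩ := hD x hthr
    obtain ⟨_, ⟨V, hV, rfl⟩, hxV, hVle⟩ := X.isBasis_affineOpens.exists_subset_of_mem_open
      (show x ∈ W ⊓ f ⁻¹ᵁ (iS ⁻¹ᵁ A) from ⟨hxW, hxA⟩) (W ⊓ f ⁻¹ᵁ (iS ⁻¹ᵁ A)).2
    have hVW : V ≤ W := fun z hz => (hVle hz).1
    have hVA : V ≤ f ⁻¹ᵁ (iS ⁻¹ᵁ A) := fun z hz => (hVle hz).2
    obtain ⟨φ, hφ, hφX, hφC⟩ := exists_etale_coord f v het ⟨iS ⁻¹ᵁ A, hA'⟩ hV hVW hVA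
    obtain ⟨C', iC, ψ, π, hψ, hπ, hcomm, hker, hcoord⟩ :=
      exists_etale_chart_lift (iS.app A).hom (iS.app_surjective A hA) φ hφ
    choose T hT hTf using hcoord
    let t : Fin r → C' := fun m => if h : x ∈ (D m).support then T (ULift.up (idx ⟨m, h⟩)) else 1
    refine ⟨V, hxV, exists_lift_of_ring D ⟨A, hA⟩ hV hVA ψ π hψ hπ (by rw [hcomm, hφC]) hker t
      (fun m => ?_) fun m => ?_⟩ <;> simp only [t] <;> by_cases hm : x ∈ (D m).support
    · rw [dif_pos hm, hT, hφX]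
      exact hideal ⟨m, hm⟩ ⟨V, hV⟩ hVW
    · rw [dif_neg hm, map_one, Ideal.span_singleton_one]
      exact hout m hm ⟨V, hV⟩ hVW
    all_goals
      have key : ∀ c : C', c = t m → (∀ a, c = T a → ((Ideal.Quotient.mk (Ideal.span {c})).comp ψ).Flat) :=
        fun c _ a ha => ha ▸ hTf a
      have key1 : ∀ c : C', c = 1 → ((Ideal.Quotient.mk (Ideal.span {c})).comp ψ).Flat :=
        fun c hc => hc ▸ hone C' ψ
    · exact key (t m) rfl _ (dif_pos hm)
    · exact key1 (t m) (dif_neg hm)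
  · let O : X.Opens := ⟨(⋃ m, ((D m).support : Set X))ᶜ, (isClosed_iUnion_of_finite fun m => (D m).support.2).isOpen_compl⟩
    have hxO : x ∈ O := fun h => by
      obtain ⟨m, hm⟩ := Set.mem_iUnion.1 h
      exact hthr ⟨⟨m, hm⟩⟩
    obtain ⟨_, ⟨V, hV, rfl⟩, hxV, hVle⟩ := X.isBasis_affineOpens.exists_subset_of_mem_open
      (show x ∈ O ⊓ f ⁻¹ᵁ (iS ⁻¹ᵁ A) from ⟨hxO, hxA⟩) (O ⊓ f ⁻¹ᵁ (iS ⁻¹ᵁ A)).2
    have hVA : V ≤ f ⁻¹ᵁ (iS ⁻¹ᵁ A) := fun z hz => (hVle hz).2
    have htop : ∀ m, (D m).ideal ⟨V, hV⟩ = ⊤ := by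
      intro m
      by_contra hne
      obtain ⟨P, hP, hle⟩ := Ideal.exists_le_maximal _ hne
      let y := hV.fromSpec ⟨P, hP.isPrime⟩
      have hy : y ∈ V := hV.range_fromSpec.le ⟨_, rfl⟩
      refine (hVle hy).1 (Set.mem_iUnion.2 ⟨m, ?_⟩)
      have h := ((D m).coe_support_inter ⟨V, hV⟩).ge
        (show y ∈ X.zeroLocus (U := V) ((D m).ideal ⟨V, hV⟩) ∩ V from ⟨?_, hy⟩)
      exact h.1
      rw [Scheme.mem_zeroLocus_iff]
      intro a ha hya
      have h2 : (⟨P, hP.isPrime⟩ : Spec Γ(X, V)) ∈ hV.fromSpec ⁻¹ᵁ X.basicOpen a := hya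
      rw [IsAffineOpen.fromSpec_preimage_basicOpen] at h2
      exact h2 (hle ha)
    let a := (iS.app A).hom
    let ap := (f.appLE (iS ⁻¹ᵁ A) V hVA).hom
    letI : Algebra Γ(Sl, A) Γ(S, iS ⁻¹ᵁ A) := a.toAlgebra
    letI : Algebra Γ(S, iS ⁻¹ᵁ A) Γ(X, V) := ap.toAlgebra
    letI : Algebra Γ(Sl, A) Γ(X, V) := (ap.comp a).toAlgebra
    haveI : IsScalarTower Γ(Sl, A) Γ(S, iS ⁻¹ᵁ A) Γ(X, V) := IsScalarTower.of_algebraMap_eq fun _ => rfl
    haveI : Algebra.Smooth Γ(S, iS ⁻¹ᵁ A) Γ(X, V) :=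
      RingHom.smooth_algebraMap.1 (Smooth.smooth_appLE f hA' hV hVA)
    obtain ⟨C', iC, iA, hC', π, hπ, hker⟩ :=
      Smooth28.exists_smooth_lift (R := Γ(Sl, A)) (R₀ := Γ(S, iS ⁻¹ᵁ A)) (A₀ := Γ(X, V))
        (iS.app_surjective A hA)
    refine ⟨V, hxV, exists_lift_of_ring D ⟨A, hA⟩ hV hVA (algebraMap Γ(Sl, A) C') π.toRingHom
      (RingHom.flat_algebraMap_iff.2 inferInstance) hπ (RingHom.ext fun z => π.commutes z) hker (fun _ => 1)
      (fun m => ?_) fun m => hone C' _⟩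
    rw [map_one, Ideal.span_singleton_one, htop]

end Groth.Agent.NCDLift3
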