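import Groth.Agent.NCDLift3.Alg
import Groth.Agent.NCDLift3.Chart
import Groth.Agent.Lift3.AdicLine
import Groth.Agent.Curves2.IdealFrame
import Groth.Agent.MP99.Basic
import Mathlib.Data.ZMod.Basic

/-!
Lifts of components of a normal crossing divisor: flat iff Cartier.
-/

set_option autoImplicit false
set_option backward.isDefEq.respectTransparency false
set_option backward.isDefEq.respectTransparency.types false

universe u

open CategoryTheory CategoryTheory.Limits AlgebraicGeometry TopologicalSpace Opposite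

noncomputable section

namespace Groth.Agent.NCDLift3

open Lift3.AdicLine

theorem zmod_ann (p : ℕ) [Fact p.Prime] (a : ULift.{u} (ZMod (p ^ 2)))
    (ha : (p : ULift.{u} (ZMod (p ^ 2))) * a = 0) : ∃ b, a = (p : ULift.{u} (ZMod (p ^ 2))) * b := by
  haveI : NeZero (p ^ 2) := ⟨pow_ne_zero 2 (Fact.out : p.Prime).ne_zero⟩
  obtain ⟨a⟩ := a
  have h0 : ((p * a.val : ℕ) : ZMod (p ^ 2)) = 0 := by
    rw [Nat.cast_mul, ZMod.natCast_zmod_val]
    exact congrArg ULift.down ha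
  rw [ZMod.natCast_eq_zero_iff] at h0
  obtain ⟨b, hb⟩ := Nat.dvd_of_mul_dvd_mul_left (Fact.out : p.Prime).pos ((dvd_of_eq (pow_two p).symm).trans h0)
  refine ⟨⟨(b : ZMod (p ^ 2))⟩, ULift.ext _ _ ?_⟩
  show a = (p : ZMod (p ^ 2)) * (b : ZMod (p ^ 2))
  rw [← Nat.cast_mul, ← hb, ZMod.natCast_zmod_val]

variable (p : ℕ) [Fact p.Prime]

/-- The reduction `ℤ/p² → 𝔽_p`. -/
abbrev redHom : CommRingCat.of (ULift.{u} (ZMod (p ^ 2))) ⟶ CommRingCat.of (ULift.{u} (ZMod p)) :=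
  CommRingCat.ofHom ((ZMod.castHom (dvd_pow_self p two_ne_zero) (ULift.{u} (ZMod p))).comp
    (ULift.ringEquiv : ULift.{u} (ZMod (p ^ 2)) ≃+* ZMod (p ^ 2)).toRingHom)

theorem redHom_surjective : Function.Surjective (redHom.{u} p) := by
  haveI : NeZero p := ⟨(Fact.out : p.Prime).ne_zero⟩
  rintro ⟨b⟩
  refine ⟨⟨(b.val : ZMod (p ^ 2))⟩, ?_⟩
  show ZMod.castHom (dvd_pow_self p two_ne_zero) (ULift.{u} (ZMod p)) (b.val : ZMod (p ^ 2)) = _
  rw [map_natCast]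
  apply ULift.ext
  rw [ULift.down_natCast, ZMod.natCast_zmod_val]

theorem ker_redHom : RingHom.ker (redHom.{u} p).hom = Ideal.span {(p : ULift.{u} (ZMod (p ^ 2)))} := by
  haveI : NeZero (p ^ 2) := ⟨pow_ne_zero 2 (Fact.out : p.Prime).ne_zero⟩
  refine le_antisymm ?_ ((Ideal.span_singleton_le_iff_mem _).2 ?_)
  · rintro ⟨a⟩ ha
    have h0 : ZMod.castHom (dvd_pow_self p two_ne_zero) (ULift.{u} (ZMod p)) (a.val : ZMod (p ^ 2)) = 0 := by
      rw [ZMod.natCast_zmod_val]; exact ha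
    rw [map_natCast] at h0
    have h1 : ((a.val : ℕ) : ZMod p) = 0 := by
      have := congrArg ULift.down h0
      rwa [ULift.down_natCast] at this
    obtain ⟨b, hb⟩ := (ZMod.natCast_eq_zero_iff _ _).1 h1
    refine Ideal.mem_span_singleton'.2 ⟨⟨(b : ZMod (p ^ 2))⟩, ULift.ext _ _ ?_⟩
    show (b : ZMod (p ^ 2)) * (p : ZMod (p ^ 2)) = a
    rw [← Nat.cast_mul, mul_comm, ← hb, ZMod.natCast_zmod_val]
  · show (redHom.{u} p).hom (p : ULift.{u} (ZMod (p ^ 2))) = 0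
    rw [map_natCast]
    apply ULift.ext
    rw [ULift.down_natCast, ZMod.natCast_self]
    rfl

theorem sq_eq_zero : (p : ULift.{u} (ZMod (p ^ 2))) * (p : ULift.{u} (ZMod (p ^ 2))) = 0 := by
  rw [← Nat.cast_mul, ← pow_two]
  apply ULift.ext
  rw [ULift.down_natCast, ZMod.natCast_self]
  rfl

variable {p} {Sl S X Xl : Scheme.{u}} {gS : Sl ⟶ Spec (CommRingCat.of (ULift.{u} (ZMod (p ^ 2))))}
  {iS : S ⟶ Sl} {fS : S ⟶ Spec (CommRingCat.of (ULift.{u} (ZMod p)))}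
  (hS : IsPullback iS fS gS (Spec.map (redHom p)))
  {f : X ⟶ S} {g : Xl ⟶ Sl} {j : X ⟶ Xl} (hX : IsPullback j f g iS)

/-- A closed subscheme is flat over the base iff the quotient rings are flat. -/
theorem flat_quotient_of_flat {T Y : Scheme.{u}} (I : Y.IdealSheafData) (h : Y ⟶ T) [Flat (I.subschemeι ≫ h)]
    (A : T.affineOpens) (U : Y.affineOpens) (e : U.1 ≤ h ⁻¹ᵁ A.1) :
    ((Ideal.Quotient.mk (I.ideal U)).comp (h.appLE A.1 U.1 e).hom).Flat := by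
  have e1 : I.subschemeι ⁻¹ᵁ U.1 ≤ (I.subschemeι ≫ h) ⁻¹ᵁ A.1 := fun z hz => e hz
  have hfl := Scheme.Hom.flat_appLE (I.subschemeι ≫ h) A.2 (U.2.preimage I.subschemeι) e1
  have key : (I.subschemeι ≫ h).appLE A.1 (I.subschemeι ⁻¹ᵁ U.1) e1 =
      h.appLE A.1 U.1 e ≫ CommRingCat.ofHom (Ideal.Quotient.mk (I.ideal U)) ≫ (I.subschemeObjIso U).inv := by
    rw [← I.subschemeι_app U, Scheme.Hom.app_eq_appLE, Scheme.Hom.appLE_comp_appLE]
  rw [key] at hfl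
  have h2 := hfl.comp (RingHom.Flat.of_bijective (ConcreteCategory.bijective_of_isIso (I.subschemeObjIso U).hom))
  convert h2 using 1
  ext a
  exact (Iso.inv_hom_id_apply (I.subschemeObjIso U) _).symm

include hS hX in
theorem main [Flat gS] [Flat g] {r : ℕ} (D : Fin r → X.IdealSheafData) (hD : LogNCD.IsNCD D f)
    (Dl : Fin r → Xl.IdealSheafData) (hDl : ∀ m, (Dl m).comap j = D m) (m : Fin r) :
    Flat ((Dl m).subschemeι ≫ g) ↔ PicF.IsInvertible (ClSub.idealMod (Dl m)) := by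
  haveI : IsClosedImmersion (Spec.map (redHom.{u} p)) :=
    IsClosedImmersion.spec_of_surjective _ (redHom_surjective p)
  haveI : IsClosedImmersion iS := MorphismProperty.of_isPullback hS.flip inferInstance
  haveI : IsClosedImmersion j := MorphismProperty.of_isPullback hX.flip inferInstance
  haveI : Surjective j := by
    haveI : Surjective (Spec.map (redHom.{u} p)) := by
      refine ⟨fun (x : PrimeSpectrum (ULift.{u} (ZMod (p ^ 2)))) => ?_⟩
      refine (range_comap_of_surjective _ _ (redHom_surjective p)).ge ?_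
      rw [PrimeSpectrum.mem_zeroLocus, SetLike.coe_subset_coe, ker_redHom, Ideal.span_singleton_le_iff_mem]
      refine x.isPrime.mem_of_pow_mem 2 ?_
      rw [pow_two (p : ULift.{u} (ZMod (p ^ 2))), sq_eq_zero]
      exact zero_mem _
    haveI : Surjective iS := MorphismProperty.of_isPullback hS.flip inferInstance
    exact MorphismProperty.of_isPullback hX.flip inferInstance
  have hjX : IsPullback j (f ≫ fS) (g ≫ gS) (Spec.map (redHom p)) := hX.paste_vert hS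
  -- data on a good affine open
  have data : ∀ (A : Sl.affineOpens) (U : Xl.affineOpens) (e : U.1 ≤ g ⁻¹ᵁ A.1) (W : X.Opens),
      (∀ (Vo : X.affineOpens), Vo.1 ≤ W → ∀ e : Vo.1 ≤ f ⁻¹ᵁ (iS ⁻¹ᵁ A.1),
        ∃ t : Γ(X, Vo.1), (D m).ideal Vo = Ideal.span {t} ∧ (∀ y, t * y = 0 → y = 0) ∧
          ((Ideal.Quotient.mk (Ideal.span {t})).comp (f.appLE (iS ⁻¹ᵁ A.1) Vo.1 e).hom).Flat) →
      j ⁻¹ᵁ U.1 ≤ W →
      ∃ q : Γ(Sl, A.1), (∀ a, q * a = 0 → ∃ b, a = q * b) ∧ q * q = 0 ∧ ∃ t₀ : Γ(Xl, U.1),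
        (Dl m).ideal U ⊔ Ideal.span {(g.appLE A.1 U.1 e).hom q} =
          Ideal.span {t₀} ⊔ Ideal.span {(g.appLE A.1 U.1 e).hom q} ∧
        (∀ x, t₀ * x ∈ Ideal.span {(g.appLE A.1 U.1 e).hom q} → x ∈ Ideal.span {(g.appLE A.1 U.1 e).hom q}) ∧
        RingHom.ker (iS.app A.1).hom = Ideal.span {q} ∧
        RingHom.ker (j.app U.1).hom = Ideal.span {(g.appLE A.1 U.1 e).hom q} ∧
        ∃ e' : j ⁻¹ᵁ U.1 ≤ f ⁻¹ᵁ (iS ⁻¹ᵁ A.1),
          ((Ideal.Quotient.mk (((Dl m).ideal U).map (j.app U.1).hom)).comp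
            (f.appLE (iS ⁻¹ᵁ A.1) (j ⁻¹ᵁ U.1) e').hom).Flat := by
    intro A U e W hW hUW
    let q := base gS A.1 (p : ULift.{u} (ZMod (p ^ 2)))
    have hflA : (base gS A.1).Flat := flat_base gS A
    have e' : j ⁻¹ᵁ U.1 ≤ f ⁻¹ᵁ (iS ⁻¹ᵁ A.1) := by
      show j ⁻¹ᵁ U.1 ≤ (f ≫ iS) ⁻¹ᵁ A.1
      rw [← hX.w]
      exact j.preimage_mono e
    have hkA : RingHom.ker (iS.app A.1).hom = Ideal.span {q} := by
      rw [← Scheme.Hom.ker_apply, ker_eq_map hS (redHom_surjective p) A, ker_redHom, Ideal.map_span,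
        Set.image_singleton]
    have hbase : base (g ≫ gS) U.1 (p : ULift.{u} (ZMod (p ^ 2))) = (g.appLE A.1 U.1 e).hom q := by
      rw [map_natCast]
      show _ = (g.appLE A.1 U.1 e).hom (base gS A.1 _)
      rw [map_natCast, map_natCast]
    have hkU : RingHom.ker (j.app U.1).hom = Ideal.span {(g.appLE A.1 U.1 e).hom q} := by
      rw [← Scheme.Hom.ker_apply, ker_eq_map hjX (redHom_surjective p) U, ker_redHom, Ideal.map_span,
        Set.image_singleton, hbase]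
    obtain ⟨t, ht, hreg, hfl⟩ := hW ⟨j ⁻¹ᵁ U.1, U.2.preimage j⟩ hUW e'
    obtain ⟨t₀, rfl⟩ := j.app_surjective U.1 U.2 t
    have hmap : ((Dl m).ideal U).map (j.app U.1).hom = Ideal.span {(j.app U.1).hom t₀} := by
      rw [Scheme.Hom.app_eq_appLE, ← MP99.ideal_comap (Dl m) j U ⟨j ⁻¹ᵁ U.1, U.2.preimage j⟩ le_rfl, hDl, ht]
      rw [Scheme.Hom.app_eq_appLE]
    refine ⟨q, fun a ha => exists_eq_mul _ hflA _ (zmod_ann p) a ha,
      by rw [← map_mul, sq_eq_zero, map_zero], t₀, ?_, fun x hx => ?_, hkA, hkU, e', by rw [hmap]; exact hfl⟩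
    · have hs := j.app_surjective U.1 U.2
      rw [← hkU, RingHom.ker_eq_comap_bot, ← Ideal.comap_map_of_surjective _ hs,
        ← Ideal.comap_map_of_surjective _ hs, hmap, Ideal.map_span, Set.image_singleton]
    · rw [← hkU, RingHom.mem_ker, map_mul] at hx
      rw [← hkU, RingHom.mem_ker]
      exact hreg _ hx
  -- a small affine open around a point
  have small : ∀ (y : Xl) (O : Xl.Opens), y ∈ O → ∀ (A : Sl.affineOpens), g y ∈ A.1 →
      ∃ W : X.Opens, (∀ (Vo : X.affineOpens), Vo.1 ≤ W → ∀ e : Vo.1 ≤ f ⁻¹ᵁ (iS ⁻¹ᵁ A.1),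
        ∃ t : Γ(X, Vo.1), (D m).ideal Vo = Ideal.span {t} ∧ (∀ y, t * y = 0 → y = 0) ∧
          ((Ideal.Quotient.mk (Ideal.span {t})).comp (f.appLE (iS ⁻¹ᵁ A.1) Vo.1 e).hom).Flat) ∧
        ∃ O' : Xl.Opens, y ∈ O' ∧ O' ≤ O ⊓ g ⁻¹ᵁ A.1 ∧ j ⁻¹ᵁ O' ≤ W := by
    intro y O hyO A hA
    obtain ⟨x, rfl⟩ := j.surjective y
    obtain ⟨W, hxW, hW⟩ := exists_flat_equation f D hD m ⟨iS ⁻¹ᵁ A.1, A.2.preimage iS⟩ x
    obtain ⟨B, hB, hBW⟩ := j.isClosedEmbedding.isInducing.isOpen_iff.1 W.2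
    refine ⟨W, hW, ⟨B, hB⟩ ⊓ (O ⊓ g ⁻¹ᵁ A.1), ⟨?_, hyO, hA⟩, inf_le_right, fun z hz => ?_⟩
    · exact hBW.ge hxW
    · exact hBW.le hz.1
  rw [Curves2.isInvertible_idealMod_iff]
  constructor
  · intro hflat y
    obtain ⟨_, ⟨A, hA, rfl⟩, hyA, -⟩ := Sl.isBasis_affineOpens.exists_subset_of_mem_open
      (show g y ∈ (⊤ : Sl.Opens) from trivial) (⊤ : Sl.Opens).isOpen
    obtain ⟨W, hW, O', hyO', hO', hjO'⟩ := small y ⊤ trivial ⟨A, hA⟩ hyA
    obtain ⟨_, ⟨U, hU, rfl⟩, hyU, hUO'⟩ := Xl.isBasis_affineOpens.exists_subset_of_mem_open hyO' O'.2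
    have e : U ≤ g ⁻¹ᵁ A := fun z hz => (hO' (hUO' hz)).2
    obtain ⟨q, hann, hq, t₀, hJ, ht₀, -, -, -⟩ := data ⟨A, hA⟩ ⟨U, hU⟩ e W hW ((j.preimage_mono hUO').trans hjO')
    obtain ⟨t, -, htJ, hreg⟩ := exists_generator (g.appLE A U e).hom (g.flat_appLE hA hU e) q hann hq
      ((Dl m).ideal ⟨U, hU⟩) t₀ hJ ht₀ (flat_quotient_of_flat (Dl m) g ⟨A, hA⟩ ⟨U, hU⟩ e)
    exact ⟨⟨U, hU⟩, hyU, t, mem_nonZeroDivisors_iff_right.2 fun a ha => hreg a (by rwa [mul_comm]), htJ⟩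
  · intro hcart
    rw [HasRingHomProperty.iff_exists_appLE (P := @Flat)
      (RingHom.Flat.stableUnderComposition.stableUnderCompositionWithLocalizationAway
        RingHom.Flat.holdsForLocalizationAway).1]
    intro z
    obtain ⟨U₀, hyU₀, t, -, htU₀⟩ := hcart ((Dl m).subschemeι z)
    obtain ⟨_, ⟨A, hA, rfl⟩, hyA, -⟩ := Sl.isBasis_affineOpens.exists_subset_of_mem_open
      (show g ((Dl m).subschemeι z) ∈ (⊤ : Sl.Opens) from trivial) (⊤ : Sl.Opens).isOpen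
    obtain ⟨W, hW, O', hyO', hO', hjO'⟩ := small _ U₀.1 hyU₀ ⟨A, hA⟩ hyA
    obtain ⟨h, hhO, hyh⟩ := U₀.2.exists_basicOpen_le ⟨(Dl m).subschemeι z, hyO'⟩ hyU₀
    let U : Xl.affineOpens := Xl.affineBasicOpen h
    have e : U.1 ≤ g ⁻¹ᵁ A := fun z hz => (hO' (hhO hz)).2
    obtain ⟨q, hann, hq, t₀, hJ, ht₀, hkA, hkU, e', hfl⟩ := data ⟨A, hA⟩ U e W hW ((j.preimage_mono hhO).trans hjO')
    have hJt : (Dl m).ideal U = Ideal.span {(Xl.presheaf.map (homOfLE (Xl.basicOpen_le h)).op).hom t} := by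
      rw [← (Dl m).map_ideal_basicOpen U₀ h, htU₀, Ideal.map_span, Set.image_singleton]
    have key := flat_of_principal (g.appLE A U.1 e).hom (g.flat_appLE hA U.2 e) q hann hq ((Dl m).ideal U) t₀ hJ ht₀
      hJt (iS.app A).hom (iS.app_surjective A hA) hkA (j.app U.1).hom (j.app_surjective U.1 U.2) hkU
      (f.appLE (iS ⁻¹ᵁ A) (j ⁻¹ᵁ U.1) e').hom
      (by
        have h1 : g.appLE A U.1 e ≫ j.app U.1 = iS.app A ≫ f.appLE (iS ⁻¹ᵁ A) (j ⁻¹ᵁ U.1) e' := by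
          rw [Scheme.Hom.app_eq_appLE, Scheme.Hom.app_eq_appLE, Scheme.Hom.appLE_comp_appLE,
            Scheme.Hom.appLE_comp_appLE]
          simp only [hX.w]
        exact congr($(h1).hom))
      hfl
    refine ⟨⟨A, hA⟩, ⟨(Dl m).subschemeι ⁻¹ᵁ U.1, U.2.preimage _⟩, hyh, fun w hw => e hw, ?_⟩
    have hk : ((Dl m).subschemeι ≫ g).appLE A ((Dl m).subschemeι ⁻¹ᵁ U.1) (fun w hw => e hw) =
        g.appLE A U.1 e ≫ CommRingCat.ofHom (Ideal.Quotient.mk ((Dl m).ideal U)) ≫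
          ((Dl m).subschemeObjIso U).inv := by
      rw [← (Dl m).subschemeι_app U, Scheme.Hom.app_eq_appLE, Scheme.Hom.appLE_comp_appLE]
    rw [hk]
    exact key.comp (RingHom.Flat.of_bijective (ConcreteCategory.bijective_of_isIso ((Dl m).subschemeObjIso U).inv))

end Groth.Agent.NCDLift3
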