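import Groth.Agent.NCDLift3.Alg
import Mathlib.RingTheory.Ideal.Quotient.Operations

/-!
Isomorphisms of lifts modulo `q`, and how a derivation moves the image of an ideal.
-/

set_option autoImplicit false

namespace Groth.Agent.NCDLift3.UniqAlg

universe u

/-- A lift of `B` along `q`: flat reduction data. -/
structure IsLift {B₁ B : Type u} [CommRing B₁] [CommRing B] (q : B₁) (π : B₁ →+* B) : Prop where
  surj : Function.Surjective π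
  ker : RingHom.ker π = Ideal.span {q}
  sq : q * q = 0
  ann : ∀ x, q * x = 0 → π x = 0

variable {B₁ B₂ B : Type u} [CommRing B₁] [CommRing B₂] [CommRing B] {q₁ : B₁} {q₂ : B₂}
  {π₁ : B₁ →+* B} {π₂ : B₂ →+* B}

theorem IsLift.exists_mul (h : IsLift q₁ π₁) {x : B₁} (hx : π₁ x = 0) : ∃ y, x = q₁ * y := by
  rw [← RingHom.mem_ker, h.ker, Ideal.mem_span_singleton'] at hx
  obtain ⟨y, rfl⟩ := hx
  exact ⟨y, mul_comm _ _⟩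

theorem IsLift.mul_eq (h : IsLift q₁ π₁) {x y : B₁} (hxy : π₁ x = π₁ y) : q₁ * x = q₁ * y := by
  obtain ⟨z, hz⟩ := h.exists_mul (show π₁ (x - y) = 0 by rw [map_sub, hxy, sub_self])
  rw [← sub_eq_zero, ← mul_sub, hz, ← mul_assoc, h.sq, zero_mul]

theorem IsLift.eq_of_mul_eq (h : IsLift q₁ π₁) {x y : B₁} (hxy : q₁ * x = q₁ * y) : π₁ x = π₁ y := by
  rw [← sub_eq_zero, ← map_sub]
  exact h.ann _ (by rw [mul_sub, hxy, sub_self])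

/-- Multiplication by `q` on the reduction. -/
noncomputable def theta (h : IsLift q₁ π₁) : B →+ B₁ where
  toFun b := q₁ * Function.surjInv h.surj b
  map_zero' := by
    rw [h.mul_eq (y := 0) (by rw [Function.surjInv_eq h.surj, map_zero]), mul_zero]
  map_add' a b := by
    rw [← mul_add]
    exact h.mul_eq (by rw [map_add, Function.surjInv_eq h.surj, Function.surjInv_eq h.surj, Function.surjInv_eq h.surj])

theorem theta_map (h : IsLift q₁ π₁) (x : B₁) : theta h (π₁ x) = q₁ * x :=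
  h.mul_eq (Function.surjInv_eq h.surj _)

theorem theta_mul (h : IsLift q₁ π₁) (x : B₁) (b : B) : theta h (π₁ x * b) = x * theta h b := by
  obtain ⟨y, rfl⟩ := h.surj b
  rw [← map_mul, theta_map, theta_map]
  ring

theorem map_theta (h : IsLift q₁ π₁) (b : B) : π₁ (theta h b) = 0 := by
  obtain ⟨y, rfl⟩ := h.surj b
  rw [theta_map, ← RingHom.mem_ker, h.ker]
  exact Ideal.mul_mem_right _ _ (Ideal.mem_span_singleton_self _)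

theorem theta_mul_theta (h : IsLift q₁ π₁) (a b : B) : theta h a * theta h b = 0 := by
  obtain ⟨x, rfl⟩ := h.surj a
  obtain ⟨y, rfl⟩ := h.surj b
  rw [theta_map, theta_map, mul_mul_mul_comm, h.sq, zero_mul]

/-- Moving a map of lifts by a derivation of the reduction. -/
noncomputable def perturb (h : IsLift q₁ π₁) (χ : B₂ →+* B₁) (hχ : π₁.comp χ = π₂) (δ : B →+ B)
    (hδ : ∀ a b, δ (a * b) = a * δ b + b * δ a) : B₂ →+* B₁ where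
  toFun x := χ x + theta h (δ (π₂ x))
  map_one' := by
    have h1 : δ 1 = 0 := by simpa using hδ 1 1
    rw [map_one, map_one, h1, map_zero, add_zero]
  map_zero' := by simp
  map_add' x y := by simp only [map_add]; abel
  map_mul' x y := by
    have hx : ∀ x, π₁ (χ x) = π₂ x := fun x => congr($hχ x)
    rw [map_mul, map_mul, hδ, map_add, ← hx x, ← hx y, theta_mul, theta_mul, hx, hx, add_mul, mul_add, mul_add,
      theta_mul_theta]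
    ring

theorem perturb_apply (h : IsLift q₁ π₁) (χ : B₂ →+* B₁) (hχ : π₁.comp χ = π₂) (δ : B →+ B)
    (hδ : ∀ a b, δ (a * b) = a * δ b + b * δ a) (x : B₂) :
    perturb h χ hχ δ hδ x = χ x + theta h (δ (π₂ x)) := rfl

theorem comp_perturb (h : IsLift q₁ π₁) (χ : B₂ →+* B₁) (hχ : π₁.comp χ = π₂) (δ : B →+ B)
    (hδ : ∀ a b, δ (a * b) = a * δ b + b * δ a) : π₁.comp (perturb h χ hχ δ hδ) = π₂ :=
  RingHom.ext fun x => by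
    show π₁ (χ x + theta h (δ (π₂ x))) = π₂ x
    rw [map_add, map_theta, add_zero]
    exact congr($hχ x)

theorem bijective (h₁ : IsLift q₁ π₁) (h₂ : IsLift q₂ π₂) (χ : B₂ →+* B₁) (hχ : π₁.comp χ = π₂)
    (hq : χ q₂ = q₁) : Function.Bijective χ := by
  have hx : ∀ x, π₁ (χ x) = π₂ x := fun x => congr($hχ x)
  refine ⟨(injective_iff_map_eq_zero χ).2 fun x hx0 => ?_, fun y => ?_⟩
  · obtain ⟨z, rfl⟩ := h₂.exists_mul (show π₂ x = 0 by rw [← hx, hx0, map_zero])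
    rw [map_mul, hq] at hx0
    obtain ⟨w, rfl⟩ := h₂.exists_mul (show π₂ z = 0 by rw [← hx]; exact h₁.ann _ hx0)
    rw [← mul_assoc, h₂.sq, zero_mul]
  · obtain ⟨x, hx'⟩ := h₂.surj (π₁ y)
    obtain ⟨z, hz⟩ := h₁.exists_mul (show π₁ (y - χ x) = 0 by rw [map_sub, hx, hx', sub_self])
    obtain ⟨w, hw⟩ := h₂.surj (π₁ z)
    refine ⟨x + q₂ * w, ?_⟩
    rw [map_add, map_mul, hq, h₁.mul_eq (show π₁ (χ w) = π₁ z by rw [hx, hw]), ← hz]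
    ring

section Ideal

variable (h₁ : IsLift q₁ π₁) (h₂ : IsLift q₂ π₂) (χ : B₂ →+* B₁) (hχ : π₁.comp χ = π₂) (hq : χ q₂ = q₁)
  (J₁ : Ideal B₁) (J₂ : Ideal B₂) (I : Ideal B) (hJ₁ : J₁.map π₁ = I) (hJ₂ : J₂.map π₂ = I)
  (hp₁ : ∀ x ∈ J₁, π₁ x = 0 → ∃ y ∈ J₁, x = q₁ * y) (hp₂ : ∀ x ∈ J₂, π₂ x = 0 → ∃ y ∈ J₂, x = q₂ * y)

/-- `c` measures how far `χ` is from sending `J₂` into `J₁` at `b`. -/
def IsDisc (b c : B) : Prop :=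
  ∃ b₁ ∈ J₁, ∃ b₂ ∈ J₂, π₁ b₁ = b ∧ π₂ b₂ = b ∧ ∃ y, χ b₂ - b₁ = q₁ * y ∧ π₁ y = c

include h₁ h₂ hχ hJ₁ hJ₂ in
theorem exists_isDisc {b : B} (hb : b ∈ I) : ∃ c, IsDisc (q₁ := q₁) (π₁ := π₁) (π₂ := π₂) χ J₁ J₂ b c := by
  obtain ⟨b₁, hb₁, e₁⟩ := (Ideal.mem_map_iff_of_surjective π₁ h₁.surj).1 (hJ₁ ▸ hb)
  obtain ⟨b₂, hb₂, e₂⟩ := (Ideal.mem_map_iff_of_surjective π₂ h₂.surj).1 (hJ₂ ▸ hb)
  obtain ⟨y, hy⟩ := h₁.exists_mul (show π₁ (χ b₂ - b₁) = 0 by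
    rw [map_sub, show π₁ (χ b₂) = π₂ b₂ from congr($hχ b₂), e₁, e₂, sub_self])
  exact ⟨π₁ y, b₁, hb₁, b₂, hb₂, e₁, e₂, y, hy, rfl⟩

variable {χ J₁ J₂}

include h₁ hχ hq hJ₁ hJ₂ hp₁ hp₂ in
theorem isDisc_unique {b c c' : B} (h : IsDisc (q₁ := q₁) (π₁ := π₁) (π₂ := π₂) χ J₁ J₂ b c)
    (h' : IsDisc (q₁ := q₁) (π₁ := π₁) (π₂ := π₂) χ J₁ J₂ b c') : c - c' ∈ I := by
  obtain ⟨b₁, hb₁, b₂, hb₂, e₁, e₂, y, hy, rfl⟩ := h
  obtain ⟨b₁', hb₁', b₂', hb₂', e₁', e₂', y', hy', rfl⟩ := h'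
  obtain ⟨y₁, hy₁, hy₁e⟩ := hp₁ _ (sub_mem hb₁ hb₁') (by rw [map_sub, e₁, e₁', sub_self])
  obtain ⟨y₂, hy₂, hy₂e⟩ := hp₂ _ (sub_mem hb₂ hb₂') (by rw [map_sub, e₂, e₂', sub_self])
  have h2 : χ b₂ - χ b₂' = q₁ * χ y₂ := by rw [← map_sub, hy₂e, map_mul, hq]
  have h1 : π₁ (y - y') = π₁ (χ y₂ - y₁) := h₁.eq_of_mul_eq (by linear_combination h2 - hy₁e - hy + hy')
  rw [← map_sub, h1, map_sub, show π₁ (χ y₂) = π₂ y₂ from congr($hχ y₂)]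
  exact sub_mem (hJ₂ ▸ Ideal.mem_map_of_mem π₂ hy₂) (hJ₁ ▸ Ideal.mem_map_of_mem π₁ hy₁)

include h₂ hχ in
theorem IsDisc.smul {b c : B} (h : IsDisc (q₁ := q₁) (π₁ := π₁) (π₂ := π₂) χ J₁ J₂ b c) (a : B) :
    IsDisc (q₁ := q₁) (π₁ := π₁) (π₂ := π₂) χ J₁ J₂ (a * b) (a * c) := by
  obtain ⟨b₁, hb₁, b₂, hb₂, e₁, e₂, y, hy, rfl⟩ := h
  obtain ⟨a₂, rfl⟩ := h₂.surj a
  have ha : π₁ (χ a₂) = π₂ a₂ := congr($hχ a₂)
  exact ⟨χ a₂ * b₁, J₁.mul_mem_left _ hb₁, a₂ * b₂, J₂.mul_mem_left _ hb₂, by rw [map_mul, ha, e₁],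
    by rw [map_mul, e₂], χ a₂ * y, by rw [map_mul]; linear_combination χ a₂ * hy, by rw [map_mul, ha]⟩

theorem IsDisc.add {b c b' c' : B} (h : IsDisc (q₁ := q₁) (π₁ := π₁) (π₂ := π₂) χ J₁ J₂ b c)
    (h' : IsDisc (q₁ := q₁) (π₁ := π₁) (π₂ := π₂) χ J₁ J₂ b' c') :
    IsDisc (q₁ := q₁) (π₁ := π₁) (π₂ := π₂) χ J₁ J₂ (b + b') (c + c') := by
  obtain ⟨b₁, hb₁, b₂, hb₂, e₁, e₂, y, hy, rfl⟩ := h
  obtain ⟨b₁', hb₁', b₂', hb₂', e₁', e₂', y', hy', rfl⟩ := h'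
  exact ⟨b₁ + b₁', add_mem hb₁ hb₁', b₂ + b₂', add_mem hb₂ hb₂', by rw [map_add, e₁, e₁'],
    by rw [map_add, e₂, e₂'], y + y', by rw [map_add]; linear_combination hy + hy', map_add _ _ _⟩

theorem IsDisc.perturb {b c : B} (h : IsDisc (q₁ := q₁) (π₁ := π₁) (π₂ := π₂) χ J₁ J₂ b c) (δ : B →+ B)
    (hδ : ∀ a b, δ (a * b) = a * δ b + b * δ a) :
    IsDisc (q₁ := q₁) (π₁ := π₁) (π₂ := π₂) (UniqAlg.perturb h₁ χ hχ δ hδ) J₁ J₂ b (c + δ b) := by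
  obtain ⟨b₁, hb₁, b₂, hb₂, e₁, e₂, y, hy, rfl⟩ := h
  obtain ⟨z, hz⟩ := h₁.surj (δ b)
  refine ⟨b₁, hb₁, b₂, hb₂, e₁, e₂, y + z, ?_, by rw [map_add, hz]⟩
  rw [perturb_apply, e₂, ← hz, theta_map]
  linear_combination hy

include h₁ h₂ hχ hq hJ₁ hJ₂ hp₁ hp₂ in
theorem map_eq (h : ∀ b ∈ I, ∃ c ∈ I, IsDisc (q₁ := q₁) (π₁ := π₁) (π₂ := π₂) χ J₁ J₂ b c) :
    J₂.map χ = J₁ := by
  have hx : ∀ x, π₁ (χ x) = π₂ x := fun x => congr($hχ x)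
  apply le_antisymm
  · rw [Ideal.map_le_iff_le_comap]
    intro x hxJ
    obtain ⟨b₁, hb₁, e₁⟩ := (Ideal.mem_map_iff_of_surjective π₁ h₁.surj).1
      (hJ₁ ▸ hJ₂ ▸ Ideal.mem_map_of_mem π₂ hxJ)
    obtain ⟨y, hy⟩ := h₁.exists_mul (show π₁ (χ x - b₁) = 0 by rw [map_sub, hx, e₁, sub_self])
    have hd : IsDisc (q₁ := q₁) (π₁ := π₁) (π₂ := π₂) χ J₁ J₂ (π₂ x) (π₁ y) :=
      ⟨b₁, hb₁, x, hxJ, e₁, rfl, y, hy, rfl⟩
    obtain ⟨c, hc, hdc⟩ := h _ (hJ₂ ▸ Ideal.mem_map_of_mem π₂ hxJ)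
    have hy' : π₁ y ∈ I := by
      have := add_mem (isDisc_unique h₁ hχ hq I hJ₁ hJ₂ hp₁ hp₂ hd hdc) hc
      rwa [sub_add_cancel] at this
    obtain ⟨j, hj, hje⟩ := (Ideal.mem_map_iff_of_surjective π₁ h₁.surj).1 (hJ₁ ▸ hy')
    show χ x ∈ J₁
    rw [show χ x = b₁ + q₁ * j by rw [h₁.mul_eq hje]; linear_combination hy]
    exact add_mem hb₁ (J₁.mul_mem_left _ hj)
  · intro x hxJ
    have hb : π₁ x ∈ I := hJ₁ ▸ Ideal.mem_map_of_mem π₁ hxJ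
    obtain ⟨c, hc, b₁, hb₁, b₂, hb₂, e₁, e₂, y, hy, rfl⟩ := h _ hb
    obtain ⟨j, hj, hje⟩ := (Ideal.mem_map_iff_of_surjective π₂ h₂.surj).1 (hJ₂ ▸ hc)
    obtain ⟨y₁, hy₁, hy₁e⟩ := hp₁ _ (sub_mem hxJ hb₁) (by rw [map_sub, e₁, sub_self])
    obtain ⟨k, hk, hke⟩ := (Ideal.mem_map_iff_of_surjective π₂ h₂.surj).1
      (hJ₂ ▸ hJ₁ ▸ Ideal.mem_map_of_mem π₁ hy₁ : π₁ y₁ ∈ J₂.map π₂)
    have h1 : q₁ * y = q₁ * χ j := h₁.mul_eq (by rw [hx, hje])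
    have h2 : q₁ * y₁ = q₁ * χ k := h₁.mul_eq (by rw [hx, hke])
    rw [show x = χ (b₂ - q₂ * j + q₂ * k) by
      rw [map_add, map_sub, map_mul, map_mul, hq]; linear_combination hy₁e - hy + h2 - h1]
    exact Ideal.mem_map_of_mem χ (add_mem (sub_mem hb₂ (J₂.mul_mem_left _ hj)) (J₂.mul_mem_left _ hk))

end Ideal

/-- A lifted ideal with flat quotient meets the kernel in its multiple. -/
theorem exists_mem_mul {A : Type u} [CommRing A] {f : A →+* B₁} {q : A}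
    (hann : ∀ a, q * a = 0 → ∃ b, a = q * b) (hsq : q * q = 0) (hq₁ : f q = q₁) (h₁ : IsLift q₁ π₁)
    (J : Ideal B₁) (hfl : ((Ideal.Quotient.mk J).comp f).Flat) (x : B₁) (hx : x ∈ J) (hx0 : π₁ x = 0) :
    ∃ y ∈ J, x = q₁ * y := by
  obtain ⟨y, rfl⟩ := h₁.exists_mul hx0
  obtain ⟨z, hz⟩ := exists_eq_mul ((Ideal.Quotient.mk J).comp f) hfl q hann (Ideal.Quotient.mk J y)
    (by rw [RingHom.comp_apply, hq₁, ← map_mul, Ideal.Quotient.eq_zero_iff_mem]; exact hx)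
  obtain ⟨z, rfl⟩ := Ideal.Quotient.mk_surjective z
  rw [RingHom.comp_apply, hq₁, ← map_mul, Ideal.Quotient.eq] at hz
  exact ⟨y - q₁ * z, hz, by rw [mul_sub, ← mul_assoc, h₁.sq, zero_mul, sub_zero]⟩

end Groth.Agent.NCDLift3.UniqAlg
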