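import Groth.Agent.NCDLift3.LocalPair
import Groth.Agent.Var76.OmegaUniv
import Groth.Agent.Var76.OmegaSmooth
import Mathlib.Algebra.MvPolynomial.Derivation

/-!
Linear forms on the differentials with prescribed values on étale coordinates.
-/

set_option autoImplicit false
set_option backward.isDefEq.respectTransparency false
set_option backward.isDefEq.respectTransparency.types false
universe u

open CategoryTheory CategoryTheory.Limits AlgebraicGeometry Opposite TopologicalSpace

noncomputable section

namespace Groth.Agent.NCDLift3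

variable {X S : Scheme.{u}} (f : X ⟶ S)

/-- A linear form with prescribed values on the differentials of étale coordinates. -/
theorem exists_linear_coord [QuasiSeparated f] {V : X.Opens} (hV : IsAffineOpen V) (A : S.affineOpens)
    (e : V ≤ f ⁻¹ᵁ A.1) {σ : Type u} (φ : MvPolynomial σ Γ(S, A.1) →+* Γ(X, V)) (hφ : φ.Etale)
    (hφC : φ.comp MvPolynomial.C = (f.appLE A.1 V e).hom) (val : σ → Γ(X, V)) :
    ∃ l : Γ(Omega.sheaf f, V) →ₗ[Γ(X, V)] Γ(X, V),
      ∀ i, l (OmegaSh.dSect f V (φ (MvPolynomial.X i))) = val i := by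
  let R := Γ(S, A.1)
  let C := Γ(X, V)
  letI : Algebra R C := (f.appLE A.1 V e).hom.toAlgebra
  letI : Algebra (MvPolynomial σ R) C := φ.toAlgebra
  haveI : IsScalarTower R (MvPolynomial σ R) C :=
    IsScalarTower.of_algebraMap_eq' hφC.symm
  haveI : Algebra.Etale (MvPolynomial σ R) C := RingHom.etale_algebraMap.1 hφ
  obtain ⟨δ, hδ⟩ := Smooth28.exists_derivation_extend (MvPolynomial.mkDerivation R val : Derivation R (MvPolynomial σ R) C)
  let D : (ModuleCat.of C C).Derivation (f.appLE A.1 V e) :=
    ModuleCat.Derivation.mk (fun b => δ b) (fun a b => map_add δ a b) (fun a b => δ.leibniz a b)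
      (fun c => δ.map_algebraMap c)
  haveI := Omega57.isIso_toSect f hV A.2 e
  let g := inv (OmAff.toSect f A.1 V e) ≫ D.desc
  refine ⟨g.hom, fun i => ?_⟩
  show D.desc (inv (OmAff.toSect f A.1 V e) (OmegaSh.dSect f V (φ (MvPolynomial.X i)))) = _
  rw [← OmAff.toSect_d f A.1 V e, ← ConcreteCategory.comp_apply (OmAff.toSect f A.1 V e), IsIso.hom_inv_id]
  refine (D.desc_d _).trans ?_
  show δ (algebraMap (MvPolynomial σ R) C (MvPolynomial.X i)) = _
  rw [hδ, MvPolynomial.mkDerivation_X]

end Groth.Agent.NCDLift3
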