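import Groth.Agent.NCDLift3.UniqAlg
import Groth.Agent.NCDLift3.UniqDeriv
import Groth.Agent.Curves2.AffineNil
import Groth.Agent.Lift3.Deform
import Groth.Agent.FlatMor67.SmoothLiftLFP

/-!
Morphisms between flat lifts of an affine scheme over a non-affine base: reduction data, existence, and
moving by a vector field.
-/

set_option autoImplicit false
set_option linter.style.haveILetI false
set_option backward.isDefEq.respectTransparency false
set_option backward.isDefEq.respectTransparency.types false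
universe u

open CategoryTheory CategoryTheory.Limits AlgebraicGeometry Opposite TopologicalSpace

noncomputable section

namespace Groth.Agent.NCDLift3

open Groth.Agent QC70 Lift3.AdicLine

variable {p : ℕ} [Fact p.Prime] {Sl S X Xl : Scheme.{u}}
  {gS : Sl ⟶ Spec (CommRingCat.of (ULift.{u} (ZMod (p ^ 2))))}
  {iS : S ⟶ Sl} {fS : S ⟶ Spec (CommRingCat.of (ULift.{u} (ZMod p)))}
  (hS : IsPullback iS fS gS (Spec.map (redHom p)))
  {f : X ⟶ S} {g : Xl ⟶ Sl} {j : X ⟶ Xl} (hX : IsPullback j f g iS)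

include hS in
theorem isClosedImmersion_base : IsClosedImmersion iS :=
  haveI := IsClosedImmersion.spec_of_surjective _ (redHom_surjective.{u} p)
  MorphismProperty.of_isPullback hS.flip inferInstance

include hS in
theorem base_sq (U : Sl.affineOpens) : iS.ker.ideal U ^ 2 = ⊥ := by
  rw [ker_eq_map hS (redHom_surjective p) U, ← Ideal.map_pow, ker_redHom, Ideal.span_singleton_pow,
    pow_two (p : ULift.{u} (ZMod (p ^ 2))), sq_eq_zero, Ideal.span_singleton_zero, Ideal.map_bot]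

include hS hX in
theorem ker_lift (V : Xl.affineOpens) : j.ker.ideal V = Ideal.span {(p : Γ(Xl, V.1))} := by
  rw [ker_eq_map (hX.paste_vert hS) (redHom_surjective p) V, ker_redHom, Ideal.map_span, Set.image_singleton,
    map_natCast]

include hS hX in
theorem isAffine_lift [IsAffine X] : IsAffine Xl := by
  haveI := isClosedImmersion_base hS
  haveI : IsClosedImmersion j := MorphismProperty.of_isPullback hX.flip inferInstance
  haveI : Surjective iS := Lift3.Deform.surjective (i := iS) (base_sq hS)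
  haveI : Surjective j := MorphismProperty.of_isPullback hX.flip inferInstance
  exact Curves2.isAffine_of_nilpotent j fun U =>
    ⟨2, Lift3.Deform.ker_sq (base_sq hS) hX U⟩

include hS hX in
theorem isLift_top [Flat gS] [Flat g] [IsAffine Xl] :
    UniqAlg.IsLift (p : Γ(Xl, ⊤)) j.appTop.hom := by
  haveI := isClosedImmersion_base hS
  haveI : IsClosedImmersion j := MorphismProperty.of_isPullback hX.flip inferInstance
  have hk : RingHom.ker j.appTop.hom = Ideal.span {(p : Γ(Xl, ⊤))} := by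
    rw [← ker_lift hS hX ⟨⊤, isAffineOpen_top Xl⟩, Scheme.Hom.ker_apply]
  refine ⟨j.app_surjective ⊤ (isAffineOpen_top Xl), hk, ?_, fun x hx => ?_⟩
  · have h := congrArg (base (g ≫ gS) ⊤) (sq_eq_zero.{u} p)
    rwa [map_mul, map_natCast, map_zero] at h
  · obtain ⟨y, rfl⟩ := exists_eq_mul (base (g ≫ gS) ⊤) (flat_base (g ≫ gS) ⟨⊤, isAffineOpen_top Xl⟩) _
      (zmod_ann p) x (by rwa [map_natCast])
    rw [map_natCast, ← RingHom.mem_ker, hk]
    exact Ideal.mul_mem_right _ _ (Ideal.mem_span_singleton_self _)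

include hS hX in
theorem exists_mem_mul_top [Flat gS] [Flat g] [IsAffine Xl] (J : Xl.IdealSheafData) [Flat (J.subschemeι ≫ g)]
    (x : Γ(Xl, ⊤)) (hx : x ∈ J.ideal ⟨⊤, isAffineOpen_top Xl⟩) (hx0 : j.appTop.hom x = 0) :
    ∃ y ∈ J.ideal ⟨⊤, isAffineOpen_top Xl⟩, x = (p : Γ(Xl, ⊤)) * y := by
  haveI : Flat (J.subschemeι ≫ g ≫ gS) := by rw [← Category.assoc]; infer_instance
  refine UniqAlg.exists_mem_mul (f := base (g ≫ gS) ⊤) (zmod_ann p) (sq_eq_zero p) (map_natCast _ p)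
    (isLift_top hS hX) _ ?_ x hx hx0
  have h := (RingHom.Flat.of_bijective
    (ConcreteCategory.bijective_of_isIso (Scheme.ΓSpecIso (CommRingCat.of (ULift.{u} (ZMod (p ^ 2))))).inv)).comp
      (flat_quotient_of_flat J (g ≫ gS) ⟨⊤, isAffineOpen_top _⟩ ⟨⊤, isAffineOpen_top Xl⟩ le_top)
  exact h

variable {Xl' : Scheme.{u}} {g' : Xl' ⟶ Sl} {j' : X ⟶ Xl'} (hX' : IsPullback j' f g' iS)

include hS hX hX' in
/-- Lifts of a smooth affine scheme map to each other. -/
theorem exists_hom [IsAffine X] [Smooth f] [Flat gS] [Flat g] [Flat g'] :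
    ∃ e : Xl ⟶ Xl', j ≫ e = j' ∧ e ≫ g' = g := by
  haveI := isClosedImmersion_base hS
  haveI := isAffine_lift hS hX
  haveI : Smooth g' := Lift3.Deform.smooth (base_sq hS) hX'
  have hl := isLift_top hS hX
  have hfs : MoreMor.IsFormallySmoothHom g' :=
    FlatMor67.isFormallySmoothHom_of_affineLocally_of_finiteType fun U V hU hV hUV => by
      letI := (g'.appLE V U hUV).hom.toAlgebra
      have h1 : (g'.appLE V U hUV).hom.Smooth := Smooth.smooth_appLE g' hV hU hUV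
      rw [← RingHom.algebraMap_toAlgebra (g'.appLE V U hUV).hom, RingHom.smooth_algebraMap] at h1
      exact h1.formallySmooth
  let I := RingHom.ker j.appTop.hom
  have hI : I ^ 2 = ⊥ := by
    show RingHom.ker _ ^ 2 = ⊥
    rw [hl.ker, Ideal.span_singleton_pow, pow_two (p : Γ(Xl, ⊤)), hl.sq, Ideal.span_singleton_zero]
  let E : CommRingCat.of (Γ(Xl, ⊤) ⧸ I) ≅ Γ(X, ⊤) :=
    (RingHom.quotientKerEquivOfSurjective hl.surj).toCommRingCatIso
  have hE : CommRingCat.ofHom (Ideal.Quotient.mk I) ≫ E.hom = j.appTop := by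
    ext z; rfl
  obtain ⟨l, hl₁, hl₂⟩ := hfs Γ(Xl, ⊤) I hI (Spec.map E.inv ≫ X.isoSpec.inv ≫ j') (Xl.isoSpec.inv ≫ g) (by
    rw [show CommRingCat.ofHom (Ideal.Quotient.mk I) = j.appTop ≫ E.inv by rw [← hE, Category.assoc, E.hom_inv_id,
      Category.comp_id], Spec.map_comp, Category.assoc, Category.assoc, Category.assoc]
    congr 1
    rw [Scheme.isoSpec_inv_naturality_assoc, hX.w, hX'.w])
  refine ⟨Xl.isoSpec.hom ≫ l, ?_, by rw [Category.assoc, hl₂, Iso.hom_inv_id_assoc]⟩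
  rw [← Scheme.isoSpec_hom_naturality_assoc, ← hE, Spec.map_comp, Category.assoc, hl₁, ← Spec.map_comp_assoc,
    E.inv_hom_id, Spec.map_id, Category.id_comp, Iso.hom_inv_id_assoc]

/-- A morphism of affine schemes from a map of rings of functions. -/
def ofTop {Y Z : Scheme.{u}} [IsAffine Y] [IsAffine Z] (χ : Γ(Z, ⊤) →+* Γ(Y, ⊤)) : Y ⟶ Z :=
  Y.isoSpec.hom ≫ Spec.map (CommRingCat.ofHom χ) ≫ Z.isoSpec.inv

theorem ofTop_appTop {Y Z : Scheme.{u}} [IsAffine Y] [IsAffine Z] (χ : Γ(Z, ⊤) →+* Γ(Y, ⊤)) :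
    (ofTop χ).appTop = CommRingCat.ofHom χ := by
  have h : ofTop χ ≫ Z.isoSpec.hom = Y.isoSpec.hom ≫ Spec.map (CommRingCat.ofHom χ) := by
    rw [ofTop, Category.assoc, Category.assoc, Iso.inv_hom_id, Category.comp_id]
  have h2 := congrArg Scheme.Hom.appTop h
  rw [Scheme.Hom.comp_appTop, Scheme.Hom.comp_appTop, Scheme.isoSpec_hom, Scheme.isoSpec_hom,
    Scheme.toSpecΓ_appTop, Scheme.toSpecΓ_appTop, Scheme.ΓSpecIso_naturality] at h2
  exact (cancel_epi _).1 h2

set_option maxHeartbeats 1000000 in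
include hS hX hX' in
/-- Moving a morphism of lifts by a vector field keeps it over the base. -/
theorem comp_eq_of_vectorField [IsAffine X] [IsAffine Xl] [IsAffine Xl'] [QuasiSeparated f] [Flat gS] [Flat g]
    (e₀ e : Xl ⟶ Xl') (he₀ : j ≫ e₀ = j') (he : j ≫ e = j') (hg₀ : e₀ ≫ g' = g)
    (ψ : Γ(Omega.sheaf f, ⊤) →ₗ[Γ(X, ⊤)] Γ(X, ⊤))
    (happ : ∀ x, e.appTop.hom x = e₀.appTop.hom x +
      UniqAlg.theta (isLift_top hS hX) (ψ (OmegaSh.dSect f ⊤ (j'.appTop.hom x)))) :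
    e ≫ g' = g := by
  haveI := isClosedImmersion_base hS
  haveI : IsClosedImmersion j := MorphismProperty.of_isPullback hX.flip inferInstance
  haveI : Surjective iS := Lift3.Deform.surjective (i := iS) (base_sq hS)
  haveI : Surjective j := MorphismProperty.of_isPullback hX.flip inferInstance
  haveI : (Omega.sheaf f).IsQuasicoherent := Omega57.isQuasicoherent_omega f
  refine Scheme.hom_ext_of_forall _ _ fun z => ?_
  obtain ⟨_, ⟨A, hA, rfl⟩, hzA, -⟩ := Sl.isBasis_affineOpens.exists_subset_of_mem_open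
    (show g' (e z) ∈ (⊤ : Sl.Opens) from trivial) (⊤ : Sl.Opens).isOpen
  obtain ⟨h, hhA, hzh⟩ := (isAffineOpen_top Xl').exists_basicOpen_le
    ⟨e z, show e z ∈ g' ⁻¹ᵁ A from hzA⟩ trivial
  let W₂ := Xl'.basicOpen h
  let W₁ := e ⁻¹ᵁ W₂
  have hW₁ : IsAffineOpen W₁ := by
    show IsAffineOpen (e ⁻¹ᵁ Xl'.basicOpen h)
    rw [Scheme.preimage_basicOpen_top]
    exact (isAffineOpen_top Xl).basicOpen _
  let U₀ := X.basicOpen (j'.appTop h)
  have hU₀' : j' ⁻¹ᵁ W₂ = U₀ := Scheme.preimage_basicOpen_top _ _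
  have hU₀ : j ⁻¹ᵁ W₁ = U₀ := by
    rw [← hU₀', ← he]
    rfl
  have hW₁₀ : W₁ ≤ e₀ ⁻¹ᵁ W₂ := by
    intro y hy
    obtain ⟨y, rfl⟩ := j.surjective y
    show (j ≫ e₀) y ∈ W₂
    rw [he₀, ← he]
    exact hy
  have hW₁A : W₁ ≤ g ⁻¹ᵁ A := by
    rw [← hg₀]
    exact hW₁₀.trans (e₀.preimage_mono hhA)
  refine ⟨W₁, hzh, ?_⟩
  have key : (e ≫ g').appLE A W₁ (e.preimage_mono hhA) = g.appLE A W₁ hW₁A := by
    have hg : g.appLE A W₁ hW₁A = (e₀ ≫ g').appLE A W₁ (hW₁₀.trans (e₀.preimage_mono hhA)) := by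
      simp only [hg₀]
    rw [hg, ← Scheme.Hom.appLE_comp_appLE e g' A W₂ W₁ hhA le_rfl,
      ← Scheme.Hom.appLE_comp_appLE e₀ g' A W₂ W₁ hhA hW₁₀]
    ext c
    rw [ConcreteCategory.comp_apply, ConcreteCategory.comp_apply]
    let r := g'.appLE A W₂ hhA c
    show e.appLE W₂ W₁ le_rfl r = e₀.appLE W₂ W₁ hW₁₀ r
    have hU₀A : U₀ ≤ f ⁻¹ᵁ (iS ⁻¹ᵁ A) := by
      show U₀ ≤ (f ≫ iS) ⁻¹ᵁ A
      rw [← hX'.w, ← hU₀']
      exact j'.preimage_mono hhA
    let rb := j'.appLE W₂ U₀ hU₀'.ge r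
    have hdr : OmegaSh.dSect f U₀ rb = 0 := by
      have h1 : g'.appLE A W₂ hhA ≫ j'.appLE W₂ U₀ hU₀'.ge =
          iS.app A ≫ f.appLE (iS ⁻¹ᵁ A) U₀ hU₀A := by
        rw [Scheme.Hom.app_eq_appLE, Scheme.Hom.appLE_comp_appLE, Scheme.Hom.appLE_comp_appLE]
        simp only [hX'.w]
      rw [show rb = f.appLE (iS ⁻¹ᵁ A) U₀ hU₀A (iS.app A c) from congr($h1 c), ← Var76.OmegaUniv.dOmega_app]
      exact Var76.OmegaUniv.Der.appLE (OmegaSh.dOmega f) hU₀A _
    letI : Algebra Γ(Xl', ⊤) Γ(Xl', W₂) := Props58.LocFree.resAlg (Xl'.basicOpen_le h)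
    haveI : IsLocalization.Away h Γ(Xl', W₂) := Props58.LocFree.isLocalization_resAlg (isAffineOpen_top Xl') h
    obtain ⟨⟨x, ⟨_, n, rfl⟩⟩, hx⟩ := IsLocalization.surj (Submonoid.powers h) r
    have hx' : r * resO Xl' (Xl'.basicOpen_le h) (h ^ n) = resO Xl' (Xl'.basicOpen_le h) x := hx
    -- naturality
    have nat : ∀ (e' : Xl ⟶ Xl') (hle : W₁ ≤ e' ⁻¹ᵁ W₂) (y : Γ(Xl', ⊤)),
        e'.appLE W₂ W₁ hle (resO Xl' (Xl'.basicOpen_le h) y) = resO Xl (le_top : W₁ ≤ ⊤) (e'.appTop y) := by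
      intro e' hle y
      have := e'.map_appLE hle (homOfLE (Xl'.basicOpen_le h)).op
      exact congr($this y)
    have natj : ∀ y : Γ(Xl, ⊤), j.appLE W₁ U₀ hU₀.ge (resO Xl le_top y) = resO X le_top (j.appTop y) := by
      intro y
      have h1 := j.map_appLE hU₀.ge (homOfLE (le_top : W₁ ≤ ⊤)).op
      exact congr($h1 y)
    have natj' : ∀ y : Γ(Xl', ⊤), j'.appLE W₂ U₀ hU₀'.ge (resO Xl' (Xl'.basicOpen_le h) y) =
        resO X le_top (j'.appTop y) := by
      intro y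
      have h1 := j'.map_appLE hU₀'.ge (homOfLE (Xl'.basicOpen_le h)).op
      exact congr($h1 y)
    let a := e.appLE W₂ W₁ le_rfl r
    let a₀ := e₀.appLE W₂ W₁ hW₁₀ r
    have E1 : a * resO Xl le_top (e.appTop (h ^ n)) = resO Xl le_top (e.appTop x) := by
      rw [← nat e le_rfl, ← nat e le_rfl, ← map_mul, hx']
    have E0 : a₀ * resO Xl le_top (e₀.appTop (h ^ n)) = resO Xl le_top (e₀.appTop x) := by
      rw [← nat e₀ hW₁₀, ← nat e₀ hW₁₀, ← map_mul, hx']
    have hu : IsUnit (resO Xl (le_top : W₁ ≤ ⊤) (e.appTop (h ^ n))) := by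
      rw [← nat e le_rfl]
      exact (IsLocalization.map_units Γ(Xl', W₂) (⟨h ^ n, n, rfl⟩ : Submonoid.powers h)).map _
    let θ := UniqAlg.theta (isLift_top hS hX)
    let δ : Γ(Xl', ⊤) → Γ(X, ⊤) := fun y => ψ (OmegaSh.dSect f ⊤ (j'.appTop.hom y))
    obtain ⟨y₁, hy₁⟩ := (isLift_top hS hX).surj (δ x)
    obtain ⟨y₂, hy₂⟩ := (isLift_top hS hX).surj (δ (h ^ n))
    have hθ : ∀ y, θ (j.appTop.hom y) = (p : Γ(Xl, ⊤)) * y := UniqAlg.theta_map _
    -- the reduction
    have hred : resO X (le_top : U₀ ≤ ⊤) (δ x) = rb * resO X le_top (δ (h ^ n)) := by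
      letI : Algebra Γ(X, ⊤) Γ(X, U₀) := Props58.LocFree.resAlg (X.basicOpen_le _)
      haveI : IsLocalization.Away (j'.appTop h) Γ(X, U₀) :=
        Props58.LocFree.isLocalization_resAlg (isAffineOpen_top X) _
      obtain ⟨⟨b, ⟨_, k, rfl⟩⟩, hb⟩ := IsLocalization.surj (Submonoid.powers (j'.appTop h)) rb
      have hb' : rb * resO X le_top (j'.appTop h ^ k) = resO X le_top b := hb
      have e1 : rb * resO X le_top (j'.appTop (h ^ n)) = resO X le_top (j'.appTop x) := by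
        rw [← natj', ← natj', ← map_mul, hx']
      have e2 : res (Omega.sheaf f) le_top (OmegaSh.dSect f ⊤ (j'.appTop x)) =
          rb • res (Omega.sheaf f) (le_top : U₀ ≤ ⊤) (OmegaSh.dSect f ⊤ (j'.appTop (h ^ n))) := by
        rw [← dSect_resO, ← dSect_resO, ← e1, OmegaSh.dSect_mul, hdr, smul_zero, add_zero]
      have e3 : res (Omega.sheaf f) (le_top : U₀ ≤ ⊤) ((j'.appTop h ^ k) • OmegaSh.dSect f ⊤ (j'.appTop x) -
          b • OmegaSh.dSect f ⊤ (j'.appTop (h ^ n))) = 0 := by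
        have hsub : ∀ u v : Γ(Omega.sheaf f, ⊤), res (Omega.sheaf f) (le_top : U₀ ≤ ⊤) (u - v) =
            res (Omega.sheaf f) le_top u - res (Omega.sheaf f) le_top v := fun u v => map_sub _ u v
        erw [hsub, res_smul, res_smul, e2, ← hb']
        rw [smul_smul, mul_comm, sub_self]
      obtain ⟨l, hl⟩ := (isLocAt_of_isQuasicoherent (Omega.sheaf f) (isAffineOpen_top X)).eq_zero_of (j'.appTop h) _ e3
      have e4 := congrArg (fun z => resO X (le_top : U₀ ≤ ⊤) (ψ z)) hl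
      simp only [map_smul, map_sub, map_zero, smul_eq_mul] at e4
      simp only [resO, map_mul, map_sub, map_zero] at e4
      have hu' : IsUnit (resO X (le_top : U₀ ≤ ⊤) (j'.appTop h ^ l)) :=
        IsLocalization.map_units Γ(X, U₀) (⟨_, l, rfl⟩ : Submonoid.powers (j'.appTop h))
      have e5 : resO X le_top (j'.appTop h ^ k) * resO X le_top (δ x) - resO X le_top b * resO X le_top (δ (h ^ n)) = 0 :=
        hu'.mul_right_eq_zero.1 e4
      rw [← hb'] at e5
      refine (IsLocalization.map_units Γ(X, U₀) (⟨_, k, rfl⟩ : Submonoid.powers (j'.appTop h))).mul_left_cancel ?_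
      show resO X le_top (j'.appTop h ^ k) * _ = resO X le_top (j'.appTop h ^ k) * _
      linear_combination e5
    have hrb : j.appLE W₁ U₀ hU₀.ge a₀ = rb := by
      show j.appLE W₁ U₀ hU₀.ge (e₀.appLE W₂ W₁ hW₁₀ r) = _
      rw [← ConcreteCategory.comp_apply, Scheme.Hom.appLE_comp_appLE]
      simp only [he₀]
      rfl
    let z₁ := resO Xl (le_top : W₁ ≤ ⊤) y₁ - a₀ * resO Xl le_top y₂
    have hz₁ : z₁ ∈ RingHom.ker (j.appLE W₁ U₀ hU₀.ge).hom := by
      rw [RingHom.mem_ker, map_sub, map_mul]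
      erw [natj, natj, hy₁, hy₂, hrb]
      rw [hred, sub_self]
    have hz : (p : Γ(Xl, W₁)) * z₁ = 0 := by
      have hmem : z₁ ∈ RingHom.ker (j.app W₁).hom := by
        rw [RingHom.mem_ker] at hz₁ ⊢
        rw [Scheme.Hom.app_eq_appLE]
        have hmap := j.appLE_map (U := W₁) le_rfl (homOfLE hU₀.ge).op
        refine (ConcreteCategory.bijective_of_isIso (X.presheaf.map (eqToHom hU₀.symm).op)).1 ?_
        rw [map_zero, ← hz₁, ← ConcreteCategory.comp_apply, Scheme.Hom.appLE_map]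
      rw [← Scheme.Hom.ker_apply j ⟨W₁, hW₁⟩, ker_lift hS hX, Ideal.mem_span_singleton'] at hmem
      obtain ⟨c', hc'⟩ := hmem
      rw [← hc', mul_comm c', ← mul_assoc]
      have h0 := congrArg (base (g ≫ gS) W₁) (sq_eq_zero.{u} p)
      rw [map_mul, map_natCast, map_zero] at h0
      rw [h0, zero_mul]
    have ha : ∀ y, resO Xl (le_top : W₁ ≤ ⊤) (e.appTop y) = resO Xl le_top (e₀.appTop y) +
        resO Xl le_top (θ (δ y)) := fun y =>
      (congrArg (resO Xl le_top) (happ y)).trans (map_add _ _ _)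
    have e6 : (a - a₀) * resO Xl le_top (e.appTop (h ^ n)) = 0 := by
      rw [sub_mul, E1, ha x, ← E0, ha (h ^ n), mul_add, ← hy₁, ← hy₂, hθ, hθ]
      simp only [resO, map_mul, map_natCast]
      linear_combination hz
    exact sub_eq_zero.1 (hu.mul_left_eq_zero.1 e6)
  rw [← IsAffineOpen.toSpecΓ_fromSpec hW₁, Category.assoc, Category.assoc,
    ← IsAffineOpen.SpecMap_appLE_fromSpec (e ≫ g') hA hW₁ (e.preimage_mono hhA),
    ← IsAffineOpen.SpecMap_appLE_fromSpec g hA hW₁ hW₁A, key]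

end Groth.Agent.NCDLift3
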